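import Mathlib
import Groth.Prelude.Def_EtMil

/-!
# Milnor squares: elementary facts and glued modules
-/

noncomputable section

namespace Groth.Agent.EtMil7

universe u v w

open TensorProduct

section Surjective

variable {S : Type u} {T : Type v} [CommRing S] [CommRing T] [Algebra S T]
  {M : Type w} [AddCommGroup M] [Module S M]

theorem exists_one_tmul (h : Function.Surjective (algebraMap S T)) (x : T ⊗[S] M) :
    ∃ m : M, (1 : T) ⊗ₜ[S] m = x := by
  induction x with
  | zero => exact ⟨0, tmul_zero _ _⟩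
  | tmul t m =>
    obtain ⟨s, rfl⟩ := h t
    exact ⟨s • m, by rw [← smul_tmul, Algebra.smul_def, mul_one]⟩
  | add x y hx hy =>
    obtain ⟨a, rfl⟩ := hx
    obtain ⟨b, rfl⟩ := hy
    exact ⟨a + b, tmul_add _ _ _⟩

theorem one_tmul_eq_zero_of_mem {m : M}
    (hm : m ∈ RingHom.ker (algebraMap S T) • (⊤ : Submodule S M)) : (1 : T) ⊗ₜ[S] m = 0 := by
  refine Submodule.smul_induction_on hm (fun r hr y _ => ?_) (fun x y hx hy => by rw [tmul_add, hx, hy, add_zero])
  rw [← smul_tmul, Algebra.smul_def, RingHom.mem_ker.mp hr, zero_mul, zero_tmul]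

theorem one_tmul_eq_zero_iff (h : Function.Surjective (algebraMap S T)) {m : M} :
    (1 : T) ⊗ₜ[S] m = 0 ↔ m ∈ RingHom.ker (algebraMap S T) • (⊤ : Submodule S M) := by
  refine ⟨fun hm => ?_, one_tmul_eq_zero_of_mem⟩
  have hex : Function.Exact (RingHom.ker (algebraMap S T) : Submodule S S).subtype (Algebra.linearMap S T) := by
    intro x
    exact ⟨fun hx => ⟨⟨x, hx⟩, rfl⟩, by rintro ⟨y, rfl⟩; exact y.2⟩
  obtain ⟨w, hw⟩ := (rTensor_exact M hex h ((1 : S) ⊗ₜ[S] m)).mp (by
    rw [LinearMap.rTensor_tmul]; simpa using hm)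
  have hw' := congrArg (TensorProduct.lid S M) hw
  rw [TensorProduct.lid_tmul, one_smul] at hw'
  rw [← hw']
  clear hw hw'
  induction w with
  | zero => simp
  | tmul r y =>
    rw [LinearMap.rTensor_tmul, TensorProduct.lid_tmul]
    exact Submodule.smul_mem_smul r.2 Submodule.mem_top
  | add x y hx hy => rw [map_add, map_add]; exact add_mem hx hy

theorem tmul_smul_eq_zero {k : S} (hk : algebraMap S T k = 0) (t : T) (m : M) : t ⊗ₜ[S] (k • m) = 0 := by
  rw [← smul_tmul, Algebra.smul_def, hk, zero_mul, zero_tmul]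

theorem injective_mapOfCompatibleSMul (h : Function.Surjective (algebraMap S T))
    (X : Type*) (N : Type*) [AddCommGroup X] [Module S X] [Module T X] [IsScalarTower S T X]
    [AddCommGroup N] [Module S N] [Module T N] [IsScalarTower S T N]
    {f : X ⊗[S] N →+ X ⊗[T] N} (hf : ∀ x n, f (x ⊗ₜ n) = x ⊗ₜ n) : Function.Injective f := by
  let g : X ⊗[T] N →+ X ⊗[S] N := TensorProduct.liftAddHom
    { toFun := fun x =>
        { toFun := fun n => x ⊗ₜ n
          map_zero' := tmul_zero _ _
          map_add' := fun a b => tmul_add _ _ _ }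
      map_zero' := AddMonoidHom.ext fun n => zero_tmul _ _
      map_add' := fun a b => AddMonoidHom.ext fun n => add_tmul _ _ _ }
    fun t x n => by
      obtain ⟨s, rfl⟩ := h t
      show (algebraMap S T s • x) ⊗ₜ[S] n = x ⊗ₜ[S] (algebraMap S T s • n)
      rw [algebraMap_smul, algebraMap_smul, smul_tmul]
  have : ∀ z, g (f z) = z := fun z => by
    induction z with
    | zero => simp
    | tmul x n => rw [hf]; exact TensorProduct.liftAddHom_tmul _ _ _ _
    | add a b ha hb => rw [map_add, map_add, ha, hb]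
  exact Function.LeftInverse.injective this

end Surjective

variable {B' B A' A : Type u} [CommRing B'] [CommRing B] [CommRing A'] [CommRing A]
  [Algebra B' B] [Algebra B' A'] [Algebra B A] [Algebra A' A] [Algebra B' A]
  [IsScalarTower B' B A] [IsScalarTower B' A' A]

variable (B' B A' A) in
/-- What is needed of a Milnor square for the elementary properties of glueing: both horizontal
maps are surjective and the kernel of `B' → B` surjects onto the kernel of `A' → A`. -/
structure IsWeakSquare : Prop where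
  surjA : Function.Surjective (algebraMap A' A)
  surjB : Function.Surjective (algebraMap B' B)
  exists_ker : ∀ i : A', algebraMap A' A i = 0 →
    ∃ k : B', algebraMap B' B k = 0 ∧ algebraMap B' A' k = i

theorem isWeakSquare (hsq : EtMil.IsFibreSquare B' B A' A) : IsWeakSquare B' B A' A where
  surjA := hsq.1
  surjB b := by
    obtain ⟨a, ha⟩ := hsq.1 (algebraMap B A b)
    obtain ⟨b', ⟨h, -⟩, -⟩ := hsq.2 b a ha.symm
    exact ⟨b', h⟩
  exists_ker i hi := (hsq.2 0 i (by rw [map_zero, hi])).exists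

theorem eq_of_square (hsq : EtMil.IsFibreSquare B' B A' A) {x y : B'}
    (h1 : algebraMap B' B x = algebraMap B' B y) (h2 : algebraMap B' A' x = algebraMap B' A' y) :
    x = y :=
  (hsq.2 (algebraMap B' B x) (algebraMap B' A' x) (by
    rw [← IsScalarTower.algebraMap_apply, ← IsScalarTower.algebraMap_apply])).unique ⟨rfl, rfl⟩ ⟨h1.symm, h2.symm⟩

variable {N M' : Type u} [AddCommGroup N] [Module B N] [Module B' N] [IsScalarTower B' B N]
  [AddCommGroup M'] [Module A' M'] [Module B' M'] [IsScalarTower B' A' M']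
  (φ : A ⊗[B] N ≃ₗ[A] A ⊗[A'] M')

theorem mem_glue {x : N × M'} :
    x ∈ EtMil.glue B' φ ↔ φ ((1 : A) ⊗ₜ[B] x.1) = (1 : A) ⊗ₜ[A'] x.2 :=
  Iff.rfl

variable (hw : IsWeakSquare B' B A' A)

include hw

theorem exists_glue_fst (n : N) : ∃ p : EtMil.glue B' φ, (p : N × M').1 = n := by
  obtain ⟨m, hm⟩ := exists_one_tmul hw.surjA (φ ((1 : A) ⊗ₜ[B] n))
  exact ⟨⟨(n, m), (mem_glue φ).mpr hm.symm⟩, rfl⟩

/-- If the second coordinates of the members of `S` span `M'`, members of the glued module with
vanishing first coordinate lie in `K • span S`. -/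
theorem mem_smul_span_of_fst_eq_zero (S : Set (EtMil.glue B' φ))
    (hS : Submodule.span A' (EtMil.glueSnd B' φ '' S) = ⊤)
    (q : EtMil.glue B' φ) (hq : (q : N × M').1 = 0) :
    q ∈ RingHom.ker (algebraMap B' B) • Submodule.span B' S := by
  set J := RingHom.ker (algebraMap B' B) • Submodule.span B' S
  have key : ∀ m ∈ Submodule.span A' (EtMil.glueSnd B' φ '' S), ∀ i : A', algebraMap A' A i = 0 →
      ∃ r ∈ J, (r : N × M') = (0, i • m) := by
    intro m hm
    induction hm using Submodule.span_induction with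
    | mem m hm =>
      obtain ⟨p, hp, rfl⟩ := hm
      intro i hi
      obtain ⟨k, hk, rfl⟩ := hw.exists_ker i hi
      refine ⟨k • p, Submodule.smul_mem_smul hk (Submodule.subset_span hp), ?_⟩
      refine Prod.ext ?_ ?_
      · show k • (p : N × M').1 = 0
        rw [← algebraMap_smul B k, hk, zero_smul]
      · show k • (p : N × M').2 = algebraMap B' A' k • (p : N × M').2
        rw [algebraMap_smul]
    | zero => intro i _; exact ⟨0, zero_mem _, Prod.ext rfl (smul_zero i).symm⟩
    | add a b _ _ ha hb =>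
      intro i hi
      obtain ⟨r, hr, e⟩ := ha i hi
      obtain ⟨r', hr', e'⟩ := hb i hi
      refine ⟨r + r', add_mem hr hr', ?_⟩
      rw [Submodule.coe_add, e, e', Prod.mk_add_mk, add_zero, smul_add]
    | smul a x _ hx =>
      intro i hi
      obtain ⟨r, hr, e⟩ := hx (i * a) (by rw [map_mul, hi, zero_mul])
      exact ⟨r, hr, by rw [e, mul_smul]⟩
  have hz : (q : N × M').2 ∈ RingHom.ker (algebraMap A' A) • (⊤ : Submodule A' M') := by
    rw [← one_tmul_eq_zero_iff hw.surjA, ← (mem_glue φ).mp q.2, hq, tmul_zero, map_zero]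
  have : ∀ z ∈ RingHom.ker (algebraMap A' A) • (⊤ : Submodule A' M'), ∃ r ∈ J, (r : N × M') = (0, z) := by
    intro z hz
    refine Submodule.smul_induction_on hz (fun i hi m _ => key m (hS ▸ Submodule.mem_top) i hi) ?_
    rintro a b ⟨r, hr, e⟩ ⟨r', hr', e'⟩
    exact ⟨r + r', add_mem hr hr', by rw [Submodule.coe_add, e, e', Prod.mk_add_mk, add_zero]⟩
  obtain ⟨r, hr, e⟩ := this _ hz
  have : r = q := Subtype.ext (e.trans (Prod.ext hq.symm rfl))
  exact this ▸ hr

theorem span_snd_of_span_fst (S : Set (EtMil.glue B' φ))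
    (hS : Submodule.span B (EtMil.glueFst B' φ '' S) = ⊤) (m : M') :
    ∃ z ∈ Submodule.span A' (EtMil.glueSnd B' φ '' S), (1 : A) ⊗ₜ[A'] z = (1 : A) ⊗ₜ[A'] m := by
  set W := Submodule.span A' (EtMil.glueSnd B' φ '' S)
  have key : ∀ t : A ⊗[B] N, ∃ z ∈ W, (1 : A) ⊗ₜ[A'] z = φ t := by
    intro t
    induction t with
    | zero => exact ⟨0, zero_mem _, by simp⟩
    | add x y hx hy =>
      obtain ⟨z, hz, e⟩ := hx
      obtain ⟨z', hz', e'⟩ := hy
      exact ⟨z + z', add_mem hz hz', by rw [tmul_add, e, e', map_add]⟩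
    | tmul a n =>
      have hn : n ∈ Submodule.span B (EtMil.glueFst B' φ '' S) := hS ▸ Submodule.mem_top
      induction hn using Submodule.span_induction generalizing a with
      | mem n hn =>
        obtain ⟨p, hp, rfl⟩ := hn
        obtain ⟨a', rfl⟩ := hw.surjA a
        refine ⟨a' • EtMil.glueSnd B' φ p, W.smul_mem _ (Submodule.subset_span ⟨p, hp, rfl⟩), ?_⟩
        rw [show (algebraMap A' A a') ⊗ₜ[B] (EtMil.glueFst B' φ p) =
          algebraMap A' A a' • ((1 : A) ⊗ₜ[B] (p : N × M').1) by
            rw [TensorProduct.smul_tmul', smul_eq_mul, mul_one]; rfl,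
          map_smul, (mem_glue φ).mp p.2, ← smul_tmul, Algebra.smul_def, TensorProduct.smul_tmul', smul_eq_mul]
        rfl
      | zero => exact ⟨0, zero_mem _, by simp⟩
      | add x y _ _ hx hy =>
        obtain ⟨z, hz, e⟩ := hx a
        obtain ⟨z', hz', e'⟩ := hy a
        exact ⟨z + z', add_mem hz hz', by rw [tmul_add, e, e', tmul_add, map_add]⟩
      | smul b x _ hx =>
        obtain ⟨z, hz, e⟩ := hx (b • a)
        exact ⟨z, hz, by rw [e, smul_tmul]⟩
  obtain ⟨z, hz, e⟩ := key (φ.symm ((1 : A) ⊗ₜ[A'] m))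
  exact ⟨z, hz, by rw [e, φ.apply_symm_apply]⟩

theorem span_snd_eq_top : Submodule.span A' (Set.range (EtMil.glueSnd B' φ)) = ⊤ := by
  refine eq_top_iff.mpr fun m _ => ?_
  obtain ⟨z, hz, e⟩ := span_snd_of_span_fst φ hw Set.univ (by
    refine eq_top_iff.mpr fun n _ => ?_
    obtain ⟨p, hp⟩ := exists_glue_fst φ hw n
    exact Submodule.subset_span ⟨p, trivial, hp⟩) m
  rw [Set.image_univ] at hz
  have hmem : ((0 : N), m - z) ∈ EtMil.glue B' φ := by
    rw [mem_glue, tmul_zero, map_zero, tmul_sub, e, sub_self]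
  have : m - z ∈ Submodule.span A' (Set.range (EtMil.glueSnd B' φ)) :=
    Submodule.subset_span ⟨⟨_, hmem⟩, rfl⟩
  simpa using add_mem hz this

/-- The first projection of a glued module identifies its base change. -/
theorem bijective_liftBaseChange_glueFst :
    Function.Bijective (LinearMap.liftBaseChange B (EtMil.glueFst B' φ)) := by
  refine ⟨(injective_iff_map_eq_zero _).mpr fun t ht => ?_, fun n => ?_⟩
  · obtain ⟨p, rfl⟩ := exists_one_tmul hw.surjB t
    rw [LinearMap.liftBaseChange_tmul, one_smul] at ht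
    refine one_tmul_eq_zero_of_mem (Submodule.smul_mono le_rfl le_top
      (mem_smul_span_of_fst_eq_zero φ hw Set.univ ?_ p ht))
    rw [Set.image_univ]
    exact span_snd_eq_top φ hw
  · obtain ⟨p, hp⟩ := exists_glue_fst φ hw n
    exact ⟨(1 : B) ⊗ₜ p, by rw [LinearMap.liftBaseChange_tmul, one_smul]; exact hp⟩

/-- The second projection of a glued module identifies its base change. -/
theorem bijective_liftBaseChange_glueSnd :
    Function.Bijective (LinearMap.liftBaseChange A' (EtMil.glueSnd B' φ)) := by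
  refine ⟨(injective_iff_map_eq_zero _).mpr fun t ht => ?_, fun m => ?_⟩
  swap
  · have hm : m ∈ Submodule.span A' (Set.range (EtMil.glueSnd B' φ)) := by
      rw [span_snd_eq_top φ hw]; trivial
    induction hm using Submodule.span_induction with
    | mem x hx =>
      obtain ⟨p, rfl⟩ := hx
      exact ⟨(1 : A') ⊗ₜ p, by simp⟩
    | zero => exact ⟨0, map_zero _⟩
    | add x y _ _ hx hy =>
      obtain ⟨a, rfl⟩ := hx
      obtain ⟨b, rfl⟩ := hy
      exact ⟨a + b, map_add _ a b⟩
    | smul c x _ hx =>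
      obtain ⟨a, rfl⟩ := hx
      exact ⟨c • a, map_smul _ c a⟩
  -- an element which dies in `A ⊗ N` comes from the kernel of the first projection
  let θ : A' ⊗[B'] N →+ A ⊗[B] N :=
    (TensorProduct.mapOfCompatibleSMul B B' B A N).toAddMonoidHom.comp
      (LinearMap.rTensor N (IsScalarTower.toAlgHom B' A' A).toLinearMap).toAddMonoidHom
  have hθ : Function.Injective θ := by
    refine (injective_iff_map_eq_zero θ).mpr fun x hx => ?_
    have h1 : LinearMap.rTensor N (IsScalarTower.toAlgHom B' A' A).toLinearMap x = 0 :=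
      injective_mapOfCompatibleSMul hw.surjB A N (f := (TensorProduct.mapOfCompatibleSMul B B' B A N).toAddMonoidHom)
        (fun a n => rfl) (hx.trans (map_zero _).symm)
    have hex : Function.Exact (LinearMap.ker (IsScalarTower.toAlgHom B' A' A).toLinearMap).subtype
        (IsScalarTower.toAlgHom B' A' A).toLinearMap := LinearMap.exact_subtype_ker_map _
    obtain ⟨w, rfl⟩ := (rTensor_exact N hex hw.surjA x).mp h1
    clear hx h1
    induction w with
    | zero => simp
    | tmul i n =>
      obtain ⟨k, hk, hk'⟩ := hw.exists_ker i.1 i.2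
      show (i.1 : A') ⊗ₜ[B'] n = 0
      rw [← hk', Algebra.algebraMap_eq_smul_one, smul_tmul, ← algebraMap_smul B k n, hk, zero_smul, tmul_zero]
    | add x y hx hy => rw [map_add, hx, hy, add_zero]
  have hcomp : ∀ t : A' ⊗[B'] EtMil.glue B' φ,
      φ (θ (LinearMap.lTensor A' (EtMil.glueFst B' φ) t)) =
        (1 : A) ⊗ₜ[A'] LinearMap.liftBaseChange A' (EtMil.glueSnd B' φ) t := by
    intro t
    induction t with
    | zero => simp
    | add x y hx hy => simp only [map_add, hx, hy, tmul_add]
    | tmul a p =>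
      show φ ((algebraMap A' A a) ⊗ₜ[B] (p : N × M').1) = _
      rw [show (algebraMap A' A a) ⊗ₜ[B] (p : N × M').1 = algebraMap A' A a • ((1 : A) ⊗ₜ[B] (p : N × M').1) by
        rw [TensorProduct.smul_tmul', smul_eq_mul, mul_one], map_smul, (mem_glue φ).mp p.2,
        LinearMap.liftBaseChange_tmul, ← smul_tmul, Algebra.smul_def, TensorProduct.smul_tmul', smul_eq_mul]
      rfl
  have h0 : LinearMap.lTensor A' (EtMil.glueFst B' φ) t = 0 := by
    refine hθ (φ.injective ?_)
    rw [hcomp, ht, tmul_zero, map_zero, map_zero]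
  have hex : Function.Exact (LinearMap.ker (EtMil.glueFst B' φ)).subtype (EtMil.glueFst B' φ) :=
    LinearMap.exact_subtype_ker_map _
  have hsurj : Function.Surjective (EtMil.glueFst B' φ) := exists_glue_fst φ hw
  obtain ⟨w, hw'⟩ := ((lTensor_exact (R := B') (M := ↥(LinearMap.ker (EtMil.glueFst B' φ))) (N := ↥(EtMil.glue B' φ)) (P := N) A' (f := (LinearMap.ker (EtMil.glueFst B' φ)).subtype)
    (g := EtMil.glueFst B' φ) hex hsurj) t).mp h0
  have key : ∀ w : A' ⊗[B'] LinearMap.ker (EtMil.glueFst B' φ), ∃ q : EtMil.glue B' φ,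
      (q : N × M').1 = 0 ∧ LinearMap.lTensor A' (LinearMap.ker (EtMil.glueFst B' φ)).subtype w = (1 : A') ⊗ₜ q := by
    intro w
    induction w with
    | zero => exact ⟨0, rfl, by simp⟩
    | add x y hx hy =>
      obtain ⟨q, hq, e⟩ := hx
      obtain ⟨q', hq', e'⟩ := hy
      refine ⟨q + q', ?_, by rw [map_add, e, e', tmul_add]⟩
      show (q : N × M').1 + (q' : N × M').1 = 0
      rw [hq, hq', add_zero]
    | tmul a q =>
      have hq : q.1 ∈ RingHom.ker (algebraMap B' B) • (⊤ : Submodule B' (EtMil.glue B' φ)) :=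
        Submodule.smul_mono le_rfl le_top
          (mem_smul_span_of_fst_eq_zero φ hw Set.univ
            (by rw [Set.image_univ]; exact span_snd_eq_top φ hw) q.1 q.2)
      rw [LinearMap.lTensor_tmul, Submodule.subtype_apply]
      refine Submodule.smul_induction_on hq (fun k hk p _ => ?_) ?_
      · obtain ⟨k', hk', e⟩ := hw.exists_ker (a * algebraMap B' A' k) (by
          rw [map_mul, ← IsScalarTower.algebraMap_apply B' A' A, IsScalarTower.algebraMap_apply B' B A,
            RingHom.mem_ker.mp hk, map_zero, mul_zero])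
        refine ⟨k' • p, ?_, ?_⟩
        · show k' • (p : N × M').1 = 0
          rw [← algebraMap_smul B k', hk', zero_smul]
        · rw [← smul_tmul, ← smul_tmul, Algebra.smul_def, Algebra.smul_def, mul_one, e, mul_comm]
      · rintro x y ⟨q, hq, e⟩ ⟨q', hq', e'⟩
        refine ⟨q + q', ?_, by rw [tmul_add, e, e', tmul_add]⟩
        show (q : N × M').1 + (q' : N × M').1 = 0
        rw [hq, hq', add_zero]
  obtain ⟨q, hq, e⟩ := key w
  rw [← hw', e] at ht ⊢
  rw [LinearMap.liftBaseChange_tmul, one_smul] at ht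
  rw [show q = 0 from Subtype.ext (Prod.ext hq ht), tmul_zero]

theorem finite_glue [Module.Finite B N] [Module.Finite A' M'] :
    Module.Finite B' (EtMil.glue B' φ) := by
  classical
  obtain ⟨s, hs⟩ := (Module.Finite.fg_top : (⊤ : Submodule B N).FG)
  choose l hl using exists_glue_fst φ hw
  obtain ⟨T, hTsub, hT⟩ := (Submodule.fg_span_iff_fg_span_finset_subset (Set.range (EtMil.glueSnd B' φ))).mp
    ((span_snd_eq_top φ hw).symm ▸ Module.Finite.fg_top)
  choose r hr using fun x : T => hTsub x.2
  let S : Finset (EtMil.glue B' φ) := s.image l ∪ Finset.univ.image r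
  have hfst : ∀ n, ∃ q ∈ Submodule.span B' (S : Set (EtMil.glue B' φ)), EtMil.glueFst B' φ q = n := by
    intro n
    have hn : n ∈ Submodule.span B (s : Set N) := hs ▸ Submodule.mem_top
    induction hn using Submodule.span_induction with
    | mem x hx => exact ⟨l x, Submodule.subset_span (by simp [S, Finset.mem_coe.mp hx]; exact Or.inl ⟨x, hx, rfl⟩), hl x⟩
    | zero => exact ⟨0, zero_mem _, map_zero _⟩
    | add x y _ _ hx hy =>
      obtain ⟨a, ha, rfl⟩ := hx
      obtain ⟨b, hb, rfl⟩ := hy
      exact ⟨a + b, add_mem ha hb, map_add _ a b⟩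
    | smul c x _ hx =>
      obtain ⟨a, ha, rfl⟩ := hx
      obtain ⟨c', rfl⟩ := hw.surjB c
      exact ⟨c' • a, Submodule.smul_mem _ _ ha, by rw [map_smul, algebraMap_smul]⟩
  have hsnd : Submodule.span A' (EtMil.glueSnd B' φ '' (S : Set (EtMil.glue B' φ))) = ⊤ := by
    rw [eq_top_iff, ← span_snd_eq_top φ hw, hT]
    refine Submodule.span_mono fun x hx => ⟨r ⟨x, hx⟩, by simp [S], hr ⟨x, hx⟩⟩
  refine ⟨⟨S, eq_top_iff.mpr fun p _ => ?_⟩⟩
  obtain ⟨q, hq, e⟩ := hfst (p : N × M').1
  have h0 : ((p - q : EtMil.glue B' φ) : N × M').1 = 0 := by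
    show (p : N × M').1 - (q : N × M').1 = 0
    rw [show (q : N × M').1 = (p : N × M').1 from e, sub_self]
  have := Submodule.smul_le_right (mem_smul_span_of_fst_eq_zero φ hw _ hsnd _ h0)
  simpa using add_mem this hq

end Groth.Agent.EtMil7
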