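import Groth.Agent.EtMil7.Flat

/-!
# Consequences: descent of properties along a Milnor square
-/

noncomputable section

namespace Groth.Agent.EtMil7

universe u v w

open TensorProduct

variable {B' B A' A : Type u} [CommRing B'] [CommRing B] [CommRing A'] [CommRing A]
  [Algebra B' B] [Algebra B' A'] [Algebra B A] [Algebra A' A] [Algebra B' A]
  [IsScalarTower B' B A] [IsScalarTower B' A' A]

theorem exists_of_rTensor_eq (hw : IsWeakSquare B' B A' A) (L' : Type u) [AddCommGroup L'] [Module B' L']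
    (x : B ⊗[B'] L') (y : A' ⊗[B'] L')
    (hxy : (IsScalarTower.toAlgHom B' B A).toLinearMap.rTensor L' x = (IsScalarTower.toAlgHom B' A' A).toLinearMap.rTensor L' y) :
    ∃ l : L', (1 : B) ⊗ₜ[B'] l = x ∧ (1 : A') ⊗ₜ[B'] l = y := by
  obtain ⟨l, rfl⟩ := exists_one_tmul hw.surjB x
  have hd : (IsScalarTower.toAlgHom B' A' A).toLinearMap.rTensor L' (y - (1 : A') ⊗ₜ[B'] l) = 0 := by
    rw [map_sub, ← hxy]
    simp
  have hex : Function.Exact (LinearMap.ker (IsScalarTower.toAlgHom B' A' A).toLinearMap).subtype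
      (IsScalarTower.toAlgHom B' A' A).toLinearMap := LinearMap.exact_subtype_ker_map _
  obtain ⟨w, hw'⟩ := (rTensor_exact L' hex hw.surjA _).mp hd
  have key : ∃ l₀ : L', (1 : B) ⊗ₜ[B'] l₀ = 0 ∧ (1 : A') ⊗ₜ[B'] l₀ =
      (LinearMap.ker (IsScalarTower.toAlgHom B' A' A).toLinearMap).subtype.rTensor L' w := by
    clear hw'
    induction w with
    | zero => exact ⟨0, tmul_zero _ _, by simp⟩
    | tmul i n =>
      obtain ⟨k, hk, hk'⟩ := hw.exists_ker i.1 i.2
      refine ⟨k • n, tmul_smul_eq_zero hk _ _, ?_⟩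
      rw [LinearMap.rTensor_tmul, Submodule.subtype_apply, ← hk', Algebra.algebraMap_eq_smul_one, smul_tmul]
    | add a b ha hb =>
      obtain ⟨l₁, h1, h1'⟩ := ha
      obtain ⟨l₂, h2, h2'⟩ := hb
      exact ⟨l₁ + l₂, by rw [tmul_add, h1, h2, add_zero], by rw [tmul_add, map_add, h1', h2']⟩
  obtain ⟨l₀, h0, h0'⟩ := key
  exact ⟨l + l₀, by rw [tmul_add, h0, add_zero], by rw [tmul_add, h0', hw', add_sub_cancel]⟩

section square

variable (hsq : EtMil.IsFibreSquare B' B A' A)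

include hsq

variable (L' : Type u) [AddCommGroup L'] [Module B' L']

theorem smul_eq_zero_of_one_tmul_eq_zero {l : L'} (h2 : (1 : A') ⊗ₜ[B'] l = 0) (j : B')
    (hj : algebraMap B' B j = 0) : j • l = 0 := by
  have hex : ∀ a : A', ∃! k : B', algebraMap B' B k = 0 ∧ algebraMap B' A' k = a * algebraMap B' A' j := fun a =>
    existsUnique_ker hsq _ (by
      rw [map_mul, ← IsScalarTower.algebraMap_apply B' A' A, IsScalarTower.algebraMap_apply B' B A, hj,
        map_zero, mul_zero])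
  choose σ hσ hσu using hex
  let S : A' →ₗ[B'] B' :=
    { toFun := σ
      map_add' := fun a b => (hσu _ _ ⟨by rw [map_add, (hσ a).1, (hσ b).1, add_zero],
        by rw [map_add, (hσ a).2, (hσ b).2, add_mul]⟩).symm
      map_smul' := fun c a => (hσu _ _ ⟨by rw [RingHom.id_apply, smul_eq_mul, map_mul, (hσ a).1, mul_zero],
        by rw [RingHom.id_apply, smul_eq_mul, map_mul, (hσ a).2, Algebra.smul_def, mul_assoc]⟩).symm }
  let Ψ : A' ⊗[B'] L' →ₗ[B'] L' := TensorProduct.lift ((LinearMap.lsmul B' L').comp S)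
  have h1 : σ 1 = j := (hσu 1 j ⟨hj, by rw [one_mul]⟩).symm
  have := congrArg Ψ h2
  rw [map_zero] at this
  simpa [Ψ, S, h1] using this

theorem mem_smul_and_smul_eq_zero (l : L') (h1 : ((1 : B) ⊗ₜ[B'] l : B ⊗[B'] L') = 0)
    (h2 : ((1 : A') ⊗ₜ[B'] l : A' ⊗[B'] L') = 0) :
    (∀ j : B', algebraMap B' B j = 0 → j • l = 0) ∧
      l ∈ (RingHom.ker (algebraMap B' B)) • (⊤ : Submodule B' L') :=
  ⟨fun j hj => smul_eq_zero_of_one_tmul_eq_zero hsq L' h2 j hj,
    (one_tmul_eq_zero_iff (isWeakSquare hsq).surjB).mp h1⟩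

theorem subsingleton_of_pair [Subsingleton (B ⊗[B'] L')] [Subsingleton (A' ⊗[B'] L')] : Subsingleton L' := by
  refine subsingleton_of_forall_eq 0 fun l => ?_
  have hl : l ∈ (RingHom.ker (algebraMap B' B)) • (⊤ : Submodule B' L') :=
    (one_tmul_eq_zero_iff (isWeakSquare hsq).surjB).mp (Subsingleton.elim _ _)
  refine Submodule.smul_induction_on hl (fun k hk y _ => ?_) (fun a b ha hb => by rw [ha, hb, add_zero])
  exact smul_eq_zero_of_one_tmul_eq_zero hsq L' (Subsingleton.elim _ _) k hk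

theorem mul_eq_zero_of_pair (D' : Type u) [CommRing D'] [Algebra B' D'] (x y : D')
    (hx' : ((1 : A') ⊗ₜ[B'] x : A' ⊗[B'] D') = 0)
    (hy : ((1 : B) ⊗ₜ[B'] y : B ⊗[B'] D') = 0) : x * y = 0 := by
  have hy' := (one_tmul_eq_zero_iff (isWeakSquare hsq).surjB).mp hy
  refine Submodule.smul_induction_on hy' (fun k hk z _ => ?_) (fun a b ha hb => by rw [mul_add, ha, hb, add_zero])
  rw [mul_smul_comm, ← smul_mul_assoc, smul_eq_zero_of_one_tmul_eq_zero hsq D' hx' k hk, zero_mul]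

theorem finite_of_pair [Module.Finite B (B ⊗[B'] L')] [Module.Finite A' (A' ⊗[B'] L')] : Module.Finite B' L' := by
  classical
  have key : ∀ (T : Type u) [CommRing T] [Algebra B' T] [Module.Finite T (T ⊗[B'] L')],
      ∃ s : Finset L', ∀ x : T ⊗[B'] L', x ∈ Submodule.span T ((fun l => (1 : T) ⊗ₜ[B'] l) '' (s : Set L')) := by
    intro T _ _ _
    have htop : Submodule.span T (Set.range fun l : L' => (1 : T) ⊗ₜ[B'] l) = ⊤ := by
      refine eq_top_iff.mpr fun x _ => ?_
      induction x with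
      | zero => exact zero_mem _
      | add a b ha hb => exact add_mem (ha trivial) (hb trivial)
      | tmul t l =>
        rw [show t ⊗ₜ[B'] l = t • ((1 : T) ⊗ₜ[B'] l) by rw [TensorProduct.smul_tmul', smul_eq_mul, mul_one]]
        exact Submodule.smul_mem _ _ (Submodule.subset_span ⟨l, rfl⟩)
    obtain ⟨S, hS, hS'⟩ := (Submodule.fg_span_iff_fg_span_finset_subset (Set.range fun l : L' => (1 : T) ⊗ₜ[B'] l)).mp
      (htop.symm ▸ Module.Finite.fg_top)
    choose l hl using fun z : S => hS z.2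
    refine ⟨Finset.univ.image l, fun x => ?_⟩
    have hx : x ∈ Submodule.span T (S : Set (T ⊗[B'] L')) := hS' ▸ htop.symm ▸ Submodule.mem_top
    refine Submodule.span_mono ?_ hx
    intro z hz
    exact ⟨l ⟨z, hz⟩, by simp, hl ⟨z, hz⟩⟩
  obtain ⟨s₁, h₁⟩ := key B
  obtain ⟨s₂, h₂⟩ := key A'
  let W : Submodule B' L' := Submodule.span B' (↑(s₁ ∪ s₂) : Set L')
  suffices W = ⊤ from ⟨⟨s₁ ∪ s₂, this⟩⟩
  have van : ∀ (T : Type u) [CommRing T] [Algebra B' T] (s : Finset L'), (s : Set L') ⊆ W →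
      (∀ x : T ⊗[B'] L', x ∈ Submodule.span T ((fun l => (1 : T) ⊗ₜ[B'] l) '' (s : Set L'))) →
      Subsingleton (T ⊗[B'] (L' ⧸ W)) := by
    intro T _ _ s hs hspan
    refine subsingleton_of_forall_eq 0 fun x => ?_
    obtain ⟨x, rfl⟩ := LinearMap.lTensor_surjective T (Submodule.mkQ_surjective W) x
    show (Submodule.mkQ W).baseChange T x = 0
    have hle : Submodule.span T ((fun l => (1 : T) ⊗ₜ[B'] l) '' (s : Set L')) ≤
        LinearMap.ker ((Submodule.mkQ W).baseChange T) := Submodule.span_le.mpr (by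
      rintro _ ⟨l, hl, rfl⟩
      rw [SetLike.mem_coe, LinearMap.mem_ker, LinearMap.baseChange_tmul, Submodule.mkQ_apply,
        (Submodule.Quotient.mk_eq_zero W).mpr (hs hl), tmul_zero])
    exact hle (hspan x)
  have := van B s₁ (fun l hl => Submodule.subset_span (by simp [Finset.mem_coe.mp hl])) h₁
  have := van A' s₂ (fun l hl => Submodule.subset_span (by simp [Finset.mem_coe.mp hl])) h₂
  have := subsingleton_of_pair hsq (L' ⧸ W)
  exact Submodule.Quotient.subsingleton_iff.mp this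

theorem flat_injective_pair [Module.Flat B' L'] :
    Function.Injective (fun l : L' => (((1 : B) ⊗ₜ[B'] l : B ⊗[B'] L'), ((1 : A') ⊗ₜ[B'] l : A' ⊗[B'] L'))) := by
  intro l l' h
  simp only [Prod.mk.injEq] at h
  suffices l - l' = 0 from sub_eq_zero.mp this
  have hB0 : (1 : B) ⊗ₜ[B'] (l - l') = 0 := by rw [tmul_sub, h.1, sub_self]
  have hA0 : (1 : A') ⊗ₜ[B'] (l - l') = 0 := by rw [tmul_sub, h.2, sub_self]
  let f : B' →ₗ[B'] B × A' := LinearMap.prod (Algebra.linearMap B' B) (Algebra.linearMap B' A')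
  have hf : Function.Injective f := fun x y e =>
    eq_of_square hsq (congrArg Prod.fst e) (congrArg Prod.snd e)
  have hi := Module.Flat.rTensor_preserves_injective_linearMap (M := L') f hf
  have h0 : ((1 : B') ⊗ₜ[B'] (l - l')) = 0 := hi (by
    refine (TensorProduct.prodLeft B' B' B A' L').injective ?_
    rw [map_zero, LinearMap.rTensor_tmul]
    simp only [f, LinearMap.prod_apply, Function.prod, Algebra.linearMap_apply, map_one,
      TensorProduct.prodLeft_tmul]
    rw [hB0, hA0]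
    rfl)
  simpa using congrArg (TensorProduct.lid B' L') h0

end square

section glue

variable {N M' : Type u} [AddCommGroup N] [Module B N] [Module B' N] [IsScalarTower B' B N]
  [AddCommGroup M'] [Module A' M'] [Module B' M'] [IsScalarTower B' A' M']
  (φ : A ⊗[B] N ≃ₗ[A] A ⊗[A'] M') (hsq : EtMil.IsFibreSquare B' B A' A)

include hsq

theorem flat_glue [Module.Flat B N] [Module.Flat A' M'] : Module.Flat B' (EtMil.glue B' φ) := by
  have := Module.Flat.of_linearEquiv
    (LinearEquiv.ofBijective _ (bijective_liftBaseChange_glueFst φ (isWeakSquare hsq)))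
  have := Module.Flat.of_linearEquiv
    (LinearEquiv.ofBijective _ (bijective_liftBaseChange_glueSnd φ (isWeakSquare hsq)))
  exact flat_of_flat_baseChange_pair hsq _

end glue

theorem glue_map_surjective (hA : Function.Surjective (algebraMap A' A))
    {N₁ N₂ M₁' M₂' : Type u} [AddCommGroup N₁] [Module B N₁] [Module B' N₁] [IsScalarTower B' B N₁]
    [AddCommGroup N₂] [Module B N₂] [Module B' N₂] [IsScalarTower B' B N₂]
    [AddCommGroup M₁'] [Module A' M₁'] [Module B' M₁'] [IsScalarTower B' A' M₁']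
    [AddCommGroup M₂'] [Module A' M₂'] [Module B' M₂'] [IsScalarTower B' A' M₂']
    (φ₁ : A ⊗[B] N₁ ≃ₗ[A] A ⊗[A'] M₁') (φ₂ : A ⊗[B] N₂ ≃ₗ[A] A ⊗[A'] M₂') (u : N₁ →ₗ[B] N₂) (v : M₁' →ₗ[A'] M₂')
    (hc : (v.baseChange A).comp φ₁.toLinearMap = φ₂.toLinearMap.comp (u.baseChange A))
    (hu : Function.Surjective u) (hv : Function.Surjective v) :
    ∀ y : N₂ × M₂', y ∈ EtMil.glue B' φ₂ → ∃ x : N₁ × M₁', x ∈ EtMil.glue B' φ₁ ∧ u x.1 = y.1 ∧ v x.2 = y.2 := by
  intro y hy
  obtain ⟨n, hn⟩ := hu y.1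
  obtain ⟨m, hm⟩ := exists_one_tmul hA (φ₁ ((1 : A) ⊗ₜ[B] n))
  have h1 : (1 : A) ⊗ₜ[A'] v m = (1 : A) ⊗ₜ[A'] y.2 := by
    have := congr($hc ((1 : A) ⊗ₜ[B] n))
    simp only [LinearMap.comp_apply, LinearEquiv.coe_coe, LinearMap.baseChange_tmul] at this
    rw [← hm, LinearMap.baseChange_tmul, hn] at this
    rw [this, (mem_glue φ₂).mp hy]
  have hmem : y.2 - v m ∈ RingHom.ker (algebraMap A' A) • (⊤ : Submodule A' M₂') := by
    rw [← one_tmul_eq_zero_iff hA, tmul_sub, h1, sub_self]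
  rw [← LinearMap.range_eq_top.mpr hv, LinearMap.range_eq_map, ← Submodule.map_smul''] at hmem
  obtain ⟨z, hz, hz'⟩ := hmem
  refine ⟨(n, m + z), (mem_glue φ₁).mpr ?_, hn, by rw [map_add, hz', add_sub_cancel]⟩
  rw [tmul_add, one_tmul_eq_zero_of_mem hz, add_zero, hm]

end Groth.Agent.EtMil7
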