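import Groth.Agent.EtMil7.Basic

/-!
# Flatness over a Milnor square
-/

noncomputable section

namespace Groth.Agent.EtMil7

universe u v w

open TensorProduct

/-- Maps of modules over a base change stay injective after tensoring with a module whose base
change is flat. -/
theorem rTensor_injective_of_baseChange_flat {S : Type*} {T : Type*} [CommRing S] [CommRing T] [Algebra S T]
    (P : Type*) [AddCommGroup P] [Module S P] [Module.Flat T (T ⊗[S] P)]
    {Y : Type*} {Z : Type*} [AddCommGroup Y] [Module S Y] [Module T Y] [IsScalarTower S T Y]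
    [AddCommGroup Z] [Module S Z] [Module T Z] [IsScalarTower S T Z]
    (f : Y →ₗ[T] Z) (hf : Function.Injective f) :
    Function.Injective ((f.restrictScalars S).rTensor P) := by
  let eY := AlgebraTensorModule.cancelBaseChange S T T Y P
  let eZ := AlgebraTensorModule.cancelBaseChange S T T Z P
  have h : ∀ x, eZ (f.rTensor (T ⊗[S] P) x) = (f.restrictScalars S).rTensor P (eY x) := fun x => by
    induction x with
    | zero => simp
    | add a b ha hb => simp only [map_add, ha, hb]
    | tmul y z =>
      induction z with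
      | zero => simp
      | add a b ha hb => simp only [tmul_add, map_add, ha, hb]
      | tmul t p => simp [eY, eZ, map_smul]
  have hi : Function.Injective (f.rTensor (T ⊗[S] P)) := Module.Flat.rTensor_preserves_injective_linearMap f hf
  intro a b hab
  obtain ⟨a, rfl⟩ := eY.surjective a
  obtain ⟨b, rfl⟩ := eY.surjective b
  rw [← h, ← h] at hab
  exact congrArg eY (hi (eZ.injective hab))

variable {B' B A' A : Type u} [CommRing B'] [CommRing B] [CommRing A'] [CommRing A]
  [Algebra B' B] [Algebra B' A'] [Algebra B A] [Algebra A' A] [Algebra B' A]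
  [IsScalarTower B' B A] [IsScalarTower B' A' A]

variable (hsq : EtMil.IsFibreSquare B' B A' A)

include hsq

/-- In a Milnor square the restriction `K → I` of `B' → A'` is bijective. -/
theorem existsUnique_ker (i : A') (hi : algebraMap A' A i = 0) :
    ∃! k : B', algebraMap B' B k = 0 ∧ algebraMap B' A' k = i :=
  hsq.2 0 i (by rw [map_zero, hi])

variable (P : Type u) [AddCommGroup P] [Module B' P]

/-- A submodule of `K` stable under `A'` stays injective after tensoring. -/
theorem rTensor_injective_of_stable [Module.Flat A' (A' ⊗[B'] P)] (X : Submodule B' B')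
    (hX : ∀ x ∈ X, algebraMap B' B x = 0)
    (hst : ∀ a : A', ∀ x ∈ X, ∃ y ∈ X, algebraMap B' A' y = a * algebraMap B' A' x) :
    Function.Injective (X.subtype.rTensor P) := by
  let Y : Submodule A' A' :=
    { carrier := algebraMap B' A' '' X
      add_mem' := by
        rintro _ _ ⟨x, hx, rfl⟩ ⟨y, hy, rfl⟩
        exact ⟨x + y, X.add_mem hx hy, map_add _ _ _⟩
      zero_mem' := ⟨0, X.zero_mem, map_zero _⟩
      smul_mem' := by
        rintro a _ ⟨x, hx, rfl⟩
        obtain ⟨y, hy, e⟩ := hst a x hx
        exact ⟨y, hy, e⟩ }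
  let g : X →ₗ[B'] Y :=
    { toFun := fun x => ⟨algebraMap B' A' x.1, x.1, x.2, rfl⟩
      map_add' := fun x y => Subtype.ext (map_add _ _ _)
      map_smul' := fun c x => Subtype.ext (by
        show algebraMap B' A' (c * x.1) = c • algebraMap B' A' x.1
        rw [map_mul, Algebra.smul_def]) }
  have hg : Function.Bijective g := by
    refine ⟨fun x y h => Subtype.ext (eq_of_square hsq ?_ congr(($h).1)), ?_⟩
    · rw [hX _ x.2, hX _ y.2]
    · rintro ⟨_, x, hx, rfl⟩; exact ⟨⟨x, hx⟩, rfl⟩
  have hcomp : (Algebra.linearMap B' A') ∘ₗ X.subtype = (Y.subtype.restrictScalars B') ∘ₗ g := rfl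
  have hi := (rTensor_injective_of_baseChange_flat (S := B') P Y.subtype Y.injective_subtype).comp
    (show Function.Injective (g.rTensor P) from
      (LinearEquiv.rTensor P (LinearEquiv.ofBijective g hg)).injective)
  refine Function.Injective.of_comp (f := (Algebra.linearMap B' A').rTensor P) ?_
  rwa [← LinearMap.coe_comp, ← LinearMap.rTensor_comp, hcomp, LinearMap.rTensor_comp, LinearMap.coe_comp]

omit hsq in
/-- Injectivity after tensoring descends along a surjection. -/
theorem rTensor_injective_of_comap {F : Type u} {Z : Type u} [AddCommGroup F] [Module B' F] [AddCommGroup Z]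
    [Module B' Z] (π : F →ₗ[B'] Z) (hπ : Function.Surjective π) (X : Submodule B' Z)
    (hfree : Function.Injective ((X.comap π).subtype.rTensor P)) :
    Function.Injective (X.subtype.rTensor P) := by
  let πX : X.comap π →ₗ[B'] X := LinearMap.codRestrict X (π ∘ₗ (X.comap π).subtype) fun y => y.2
  have hπX : Function.Surjective πX := fun x => by
    obtain ⟨y, hy⟩ := hπ x.1
    exact ⟨⟨y, show π y ∈ X by rw [hy]; exact x.2⟩, Subtype.ext hy⟩
  have hsquare : X.subtype ∘ₗ πX = π ∘ₗ (X.comap π).subtype := LinearMap.ext fun y => rfl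
  refine (injective_iff_map_eq_zero _).mpr fun t ht => ?_
  obtain ⟨t, rfl⟩ := LinearMap.rTensor_surjective P hπX t
  have h1 : π.rTensor P ((X.comap π).subtype.rTensor P t) = 0 := by
    rw [← LinearMap.rTensor_comp_apply, ← hsquare, LinearMap.rTensor_comp_apply, ht]
  have hex : Function.Exact (LinearMap.ker π).subtype π := LinearMap.exact_subtype_ker_map π
  obtain ⟨w, hw⟩ := ((rTensor_exact (R := B') (M := ↥(LinearMap.ker π)) (N := F) (P := Z) P
    (f := (LinearMap.ker π).subtype) (g := π) hex hπ) _).mp h1
  let r : LinearMap.ker π →ₗ[B'] X.comap π := Submodule.inclusion fun y hy => by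
    show π y ∈ X
    rw [show π y = 0 from hy]; exact X.zero_mem
  have h2 : t = r.rTensor P w := hfree (by rw [← LinearMap.rTensor_comp_apply]; exact hw.symm)
  rw [h2, ← LinearMap.rTensor_comp_apply, show πX ∘ₗ r = 0 from LinearMap.ext fun y => Subtype.ext y.2,
    LinearMap.rTensor_zero, LinearMap.zero_apply]

/-- A submodule containing the kernel of a reduction map. -/
theorem rTensor_injective_of_le_abstract [Module.Flat B (B ⊗[B'] P)]
    {F : Type u} {Fb : Type u} {G : Type u} [AddCommGroup F] [Module B' F] [AddCommGroup Fb] [Module B' Fb]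
    [Module B Fb] [IsScalarTower B' B Fb] [AddCommGroup G] [Module B' G]
    (ι₀ : G →ₗ[B'] F) (q : F →ₗ[B'] Fb) (hι : Function.Injective (ι₀.rTensor P)) (hexq : Function.Exact ι₀ q)
    (Xp : Submodule B' F) (hle : LinearMap.range ι₀ ≤ Xp) :
    Function.Injective (Xp.subtype.rTensor P) := by
  have hB : Function.Surjective (algebraMap B' B) := (isWeakSquare hsq).surjB
  let Q : Submodule B Fb :=
    { toAddSubmonoid := (Xp.map q).toAddSubmonoid
      smul_mem' := fun b y hy => by
        obtain ⟨c, rfl⟩ := hB b
        have := (Xp.map q).smul_mem c hy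
        rwa [← algebraMap_smul B c y] at this }
  let qX : Xp →ₗ[B'] Q :=
    { toFun := fun y => ⟨q y.1, y.1, y.2, rfl⟩
      map_add' := fun a b => Subtype.ext (map_add q a.1 b.1)
      map_smul' := fun c a => Subtype.ext (map_smul q c a.1) }
  have hqX : Function.Surjective qX := by rintro ⟨_, y, hy, rfl⟩; exact ⟨⟨y, hy⟩, rfl⟩
  let Gm : G →ₗ[B'] Xp := LinearMap.codRestrict Xp ι₀ fun g => hle ⟨g, rfl⟩
  have hexG : Function.Exact Gm qX := by
    intro y
    constructor
    · intro hy
      obtain ⟨g, hg⟩ := (hexq y.1).mp (congrArg Subtype.val hy)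
      exact ⟨g, Subtype.ext hg⟩
    · rintro ⟨g, rfl⟩
      exact Subtype.ext ((hexq _).mpr ⟨g, rfl⟩)
  refine (injective_iff_map_eq_zero (Xp.subtype.rTensor P)).mpr fun t ht => ?_
  have h1 : qX.rTensor P t = 0 := by
    refine rTensor_injective_of_baseChange_flat (S := B') P Q.subtype Q.injective_subtype ?_
    rw [map_zero, ← LinearMap.rTensor_comp_apply,
      show (Q.subtype.restrictScalars B') ∘ₗ qX = q ∘ₗ Xp.subtype from LinearMap.ext fun y => rfl,
      LinearMap.rTensor_comp_apply, ht, map_zero]
  obtain ⟨g, rfl⟩ := (rTensor_exact P hexG hqX t).mp h1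
  rw [show g = 0 from hι (by rw [map_zero, ← ht, ← LinearMap.rTensor_comp_apply]; rfl), map_zero]

omit hsq in
theorem exact_mapRange {G M N : Type u} [AddCommGroup G] [Module B' G] [AddCommGroup M] [Module B' M]
    [AddCommGroup N] [Module B' N] (ι : Type u) (f : G →ₗ[B'] M) (g : M →ₗ[B'] N) (h : Function.Exact f g) :
    Function.Exact (Finsupp.mapRange.linearMap (α := ι) f) (Finsupp.mapRange.linearMap (α := ι) g) := by
  classical
  intro y
  constructor
  · intro hy
    have hmem : ∀ x, ∃ z, f z = y x := fun x => (h (y x)).mp (by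
      have := DFunLike.congr_fun hy x
      simpa using this)
    choose z hz using hmem
    refine ⟨Finsupp.onFinset y.support (fun x => if y x = 0 then 0 else z x) fun x hx => ?_,
      Finsupp.ext fun x => ?_⟩
    · rw [Finsupp.mem_support_iff]
      intro h0
      exact hx (if_pos h0)
    · rw [Finsupp.mapRange.linearMap_apply, Finsupp.mapRange_apply, Finsupp.onFinset_apply]
      split
      · next h0 => rw [map_zero, h0]
      · exact hz x
  · rintro ⟨w, rfl⟩
    refine Finsupp.ext fun x => ?_
    rw [Finsupp.mapRange.linearMap_apply, Finsupp.mapRange.linearMap_apply, Finsupp.mapRange_apply,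
      Finsupp.mapRange_apply, h.apply_apply_eq_zero, Finsupp.zero_apply]

omit hsq in
theorem mapRange_rTensor_injective {G M : Type u} [AddCommGroup G] [Module B' G] [AddCommGroup M] [Module B' M]
    (ι : Type u) (f : G →ₗ[B'] M) (hf : Function.Injective (f.rTensor P)) :
    Function.Injective ((Finsupp.mapRange.linearMap (α := ι) f).rTensor P) := by
  classical
  have key : ∀ g x, f.rTensor P (TensorProduct.finsuppLeft B' B' G P ι g x) =
      TensorProduct.finsuppLeft B' B' M P ι ((Finsupp.mapRange.linearMap f).rTensor P g) x := fun g x => by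
    induction g with
    | zero => simp
    | add a b ha hb => simp only [map_add, Finsupp.add_apply, ha, hb]
    | tmul c p =>
      rw [TensorProduct.finsuppLeft_apply_tmul_apply, LinearMap.rTensor_tmul, LinearMap.rTensor_tmul,
        TensorProduct.finsuppLeft_apply_tmul_apply, Finsupp.mapRange.linearMap_apply, Finsupp.mapRange_apply]
  intro a b hab
  refine (TensorProduct.finsuppLeft B' B' G P ι).injective (Finsupp.ext fun x => hf ?_)
  rw [key, key, hab]

/-- The free case. -/
theorem rTensor_injective_of_le_free [Module.Flat B (B ⊗[B'] P)] [Module.Flat A' (A' ⊗[B'] P)]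
    (ι : Type u) (Xp : Submodule B' (ι →₀ B'))
    (hK : ∀ (x : ι) (k : B'), algebraMap B' B k = 0 → Finsupp.single x k ∈ Xp) :
    Function.Injective (Xp.subtype.rTensor P) := by
  have hKP : Function.Injective ((RingHom.ker (algebraMap B' B)).subtype.rTensor P) :=
    rTensor_injective_of_stable hsq P _ (fun x hx => hx) fun a x hx => by
      obtain ⟨k, ⟨hk, hk'⟩, -⟩ := existsUnique_ker hsq (a * algebraMap B' A' x) (by
        rw [map_mul, ← IsScalarTower.algebraMap_apply B' A' A, IsScalarTower.algebraMap_apply B' B A,
          RingHom.mem_ker.mp hx, map_zero, mul_zero])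
      exact ⟨k, hk, hk'⟩
  refine rTensor_injective_of_le_abstract hsq P
    (Finsupp.mapRange.linearMap (α := ι) (RingHom.ker (algebraMap B' B)).subtype)
    (Finsupp.mapRange.linearMap (α := ι) (Algebra.linearMap B' B))
    (mapRange_rTensor_injective P ι _ hKP)
    (exact_mapRange ι _ _ fun x => ⟨fun hx => ⟨⟨x, hx⟩, rfl⟩, by rintro ⟨y, rfl⟩; exact y.2⟩) Xp ?_
  rintro _ ⟨g, rfl⟩
  induction g using Finsupp.induction_linear with
  | zero => rw [map_zero]; exact Xp.zero_mem
  | add a b ha hb => rw [map_add]; exact Xp.add_mem ha hb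
  | single x k => simpa using hK x k.1 k.2

/-- Inclusions with cokernel killed by `K` stay injective after tensoring. -/
theorem rTensor_injective_of_killed [Module.Flat B (B ⊗[B'] P)] [Module.Flat A' (A' ⊗[B'] P)]
    {Z : Type u} [AddCommGroup Z] [Module B' Z] (X X' : Submodule B' Z) (hXX : X ≤ X')
    (hK : ∀ k : B', algebraMap B' B k = 0 → ∀ x ∈ X', k • x ∈ X) :
    Function.Injective ((Submodule.inclusion hXX).rTensor P) := by
  have hπ : Function.Surjective (Finsupp.linearCombination B' (id : X' → X')) := fun x =>
    ⟨Finsupp.single x 1, by simp⟩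
  have h := rTensor_injective_of_comap P _ hπ (X.comap X'.subtype)
    (rTensor_injective_of_le_free hsq P X' _ fun x k hk => by
      show ((Finsupp.linearCombination B' (id : X' → X') (Finsupp.single x k)) : Z) ∈ X
      simpa using hK k hk x.1 x.2)
  let e := Submodule.comapSubtypeEquivOfLe hXX
  have hcomp : Submodule.inclusion hXX ∘ₗ e.toLinearMap = (X.comap X'.subtype).subtype := LinearMap.ext fun y => rfl
  rw [← hcomp, LinearMap.rTensor_comp, LinearMap.coe_comp] at h
  exact h.of_comp_right (LinearEquiv.rTensor P e).surjective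

/-- A module whose two base changes are flat is flat. -/
theorem flat_of_flat_baseChange_pair [Module.Flat B (B ⊗[B'] P)] [Module.Flat A' (A' ⊗[B'] P)] :
    Module.Flat B' P := by
  refine Module.Flat.iff_rTensor_injective'.mpr fun J => ?_
  have hB : Function.Surjective (algebraMap B' B) := (isWeakSquare hsq).surjB
  let K : Ideal B' := RingHom.ker (algebraMap B' B)
  let X : Submodule B' B' := J ⊓ K
  -- the `A'`-saturation of `J ∩ K`
  let X' : Submodule B' B' :=
    { carrier := {k | algebraMap B' B k = 0 ∧ algebraMap B' A' k ∈ Submodule.span A' (algebraMap B' A' '' X)}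
      add_mem' := fun {a b} ha hb => ⟨by rw [map_add, ha.1, hb.1, add_zero],
        by rw [map_add]; exact add_mem ha.2 hb.2⟩
      zero_mem' := ⟨map_zero _, by rw [map_zero]; exact zero_mem _⟩
      smul_mem' := fun c a ha => ⟨by rw [smul_eq_mul, map_mul, ha.1, mul_zero],
        by rw [smul_eq_mul, map_mul]; exact Submodule.smul_mem _ _ ha.2⟩ }
  have hXX : X ≤ X' := fun x hx => ⟨hx.2, Submodule.subset_span ⟨x, hx, rfl⟩⟩
  have hst : ∀ a : A', ∀ x ∈ X', ∃ y ∈ X', algebraMap B' A' y = a * algebraMap B' A' x := fun a x hx => by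
    obtain ⟨k, ⟨hk, hk'⟩, -⟩ := existsUnique_ker hsq (a * algebraMap B' A' x) (by
      rw [map_mul, ← IsScalarTower.algebraMap_apply B' A' A, IsScalarTower.algebraMap_apply B' B A,
        hx.1, map_zero, mul_zero])
    exact ⟨k, ⟨hk, hk' ▸ Submodule.smul_mem _ a hx.2⟩, hk'⟩
  have hKX : ∀ k : B', algebraMap B' B k = 0 → ∀ x ∈ X', k • x ∈ X := by
    intro k hk x hx
    have : ∀ z ∈ Submodule.span A' (algebraMap B' A' '' X), ∀ c : A',
        ∀ y : B', algebraMap B' B y = 0 → algebraMap B' A' y = c * algebraMap B' A' k * z → y ∈ X := by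
      intro z hz
      induction hz using Submodule.span_induction with
      | mem z hz =>
        obtain ⟨e, he, rfl⟩ := hz
        intro c y hy hy'
        obtain ⟨k', ⟨hk', hk''⟩, -⟩ := existsUnique_ker hsq (c * algebraMap B' A' k) (by
          rw [map_mul, ← IsScalarTower.algebraMap_apply B' A' A, IsScalarTower.algebraMap_apply B' B A,
            hk, map_zero, mul_zero])
        have : y = k' * e := eq_of_square hsq (by rw [hy, map_mul, hk', zero_mul]) (by rw [hy', map_mul, hk''])
        rw [this]
        exact X.smul_mem k' he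
      | zero =>
        intro c y hy hy'
        rw [mul_zero] at hy'
        rw [eq_of_square hsq (x := y) (y := 0) (by rw [hy, map_zero]) (by rw [hy', map_zero])]
        exact X.zero_mem
      | add z w _ _ hz hw' =>
        intro c y hy hy'
        obtain ⟨y₁, ⟨h1, h1'⟩, -⟩ := existsUnique_ker hsq (c * algebraMap B' A' k * z) (by
          rw [map_mul, map_mul, ← IsScalarTower.algebraMap_apply B' A' A, IsScalarTower.algebraMap_apply B' B A,
            hk, map_zero, mul_zero, zero_mul])
        have h2 := hw' c (y - y₁) (by rw [map_sub, hy, h1, sub_zero]) (by rw [map_sub, hy', h1', mul_add, add_sub_cancel_left])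
        simpa using X.add_mem (hz c y₁ h1 h1') h2
      | smul a z _ hz =>
        intro c y hy hy'
        exact hz (c * a) y hy (by rw [hy', smul_eq_mul]; ring)
    exact this _ hx.2 1 (k * x) (by rw [map_mul, hk, zero_mul]) (by rw [map_mul, one_mul])
  have hXinj : Function.Injective (X.subtype.rTensor P) := by
    have := (rTensor_injective_of_stable hsq P X' (fun x hx => hx.1) hst).comp
      (rTensor_injective_of_killed hsq P X X' hXX hKX)
    rwa [← LinearMap.coe_comp, ← LinearMap.rTensor_comp] at this
  -- the quotient part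
  let Jb : Submodule B B :=
    { toAddSubmonoid := (Submodule.map (Algebra.linearMap B' B) J).toAddSubmonoid
      smul_mem' := fun b y hy => by
        obtain ⟨c, rfl⟩ := hB b
        have := (Submodule.map (Algebra.linearMap B' B) J).smul_mem c hy
        rwa [← algebraMap_smul B c y] at this }
  let q : J →ₗ[B'] Jb :=
    { toFun := fun x => ⟨algebraMap B' B x.1, x.1, x.2, rfl⟩
      map_add' := fun a b => Subtype.ext (map_add (algebraMap B' B) a.1 b.1)
      map_smul' := fun c a => Subtype.ext (map_smul (Algebra.linearMap B' B) c a.1) }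
  have hq : Function.Surjective q := by rintro ⟨_, x, hx, rfl⟩; exact ⟨⟨x, hx⟩, rfl⟩
  let i : X →ₗ[B'] J := Submodule.inclusion inf_le_left
  have hex : Function.Exact i q := by
    intro x
    constructor
    · intro hx
      exact ⟨⟨x.1, x.2, congrArg Subtype.val hx⟩, rfl⟩
    · rintro ⟨y, rfl⟩
      exact Subtype.ext y.2.2
  refine (injective_iff_map_eq_zero _).mpr fun t ht => ?_
  have h1 : q.rTensor P t = 0 := by
    refine rTensor_injective_of_baseChange_flat (S := B') P Jb.subtype Jb.injective_subtype ?_
    rw [map_zero, ← LinearMap.rTensor_comp_apply,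
      show (Jb.subtype.restrictScalars B') ∘ₗ q = (Algebra.linearMap B' B) ∘ₗ J.subtype from LinearMap.ext fun y => rfl,
      LinearMap.rTensor_comp_apply, ht, map_zero]
  obtain ⟨g, rfl⟩ := (rTensor_exact P hex hq t).mp h1
  rw [show g = 0 from hXinj (by rw [map_zero, ← ht, ← LinearMap.rTensor_comp_apply]; rfl), map_zero]

end Groth.Agent.EtMil7
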