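import Groth.Agent.EtMil7.Consequences
import Groth.Agent.W4Lib.Flat

/-!
# Finite presentation and projectivity along a Milnor square; miscellaneous
-/

noncomputable section

namespace Groth.Agent.EtMil7

universe u v w

open TensorProduct

variable {B' B A' A : Type u} [CommRing B'] [CommRing B] [CommRing A'] [CommRing A]
  [Algebra B' B] [Algebra B' A'] [Algebra B A] [Algebra A' A] [Algebra B' A]
  [IsScalarTower B' B A] [IsScalarTower B' A' A]

theorem finite_baseChange_ker {F L : Type u} [AddCommGroup F] [Module B' F] [Module.Finite B' F]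
    [AddCommGroup L] [Module B' L] [Module.Flat B' L] (π : F →ₗ[B'] L) (hπ : Function.Surjective π)
    (T : Type u) [CommRing T] [Algebra B' T] [Module.FinitePresentation T (T ⊗[B'] L)] :
    Module.Finite T (T ⊗[B'] LinearMap.ker π) := by
  have hex : Function.Exact (LinearMap.ker π).subtype π := LinearMap.exact_subtype_ker_map π
  have hinj : Function.Injective ((LinearMap.ker π).subtype.baseChange T) :=
    W4Lib.lTensor_injective_of_flat_quotient (LinearMap.ker π).injective_subtype hex hπ T
  have hsurj : Function.Surjective (π.baseChange T) := LinearMap.lTensor_surjective T hπ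
  have hexT : Function.Exact ((LinearMap.ker π).subtype.baseChange T) (π.baseChange T) :=
    lTensor_exact T hex hπ
  have hfg := Module.FinitePresentation.fg_ker (π.baseChange T) hsurj
  rw [LinearMap.exact_iff.mp hexT] at hfg
  have : Module.Finite T (LinearMap.range ((LinearMap.ker π).subtype.baseChange T)) := Module.Finite.iff_fg.mpr hfg
  exact Module.Finite.equiv (LinearEquiv.ofInjective _ hinj).symm

theorem finitePresentation_of_pair (hsq : EtMil.IsFibreSquare B' B A' A) (L : Type u) [AddCommGroup L]
    [Module B' L] [Module.Flat B (B ⊗[B'] L)] [Module.FinitePresentation B (B ⊗[B'] L)]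
    [Module.Flat A' (A' ⊗[B'] L)] [Module.FinitePresentation A' (A' ⊗[B'] L)] :
    Module.FinitePresentation B' L := by
  have := flat_of_flat_baseChange_pair hsq L
  have := finite_of_pair hsq L
  obtain ⟨n, π, hπ⟩ := Module.Finite.exists_fin' B' L
  have := finite_baseChange_ker π hπ B
  have := finite_baseChange_ker π hπ A'
  have := finite_of_pair hsq (LinearMap.ker π)
  exact Module.finitePresentation_of_surjective π hπ (Module.Finite.iff_fg.mp this)

theorem finite_projective_glue {N M' : Type u} [AddCommGroup N] [Module B N] [Module B' N] [IsScalarTower B' B N]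
    [AddCommGroup M'] [Module A' M'] [Module B' M'] [IsScalarTower B' A' M']
    (φ : A ⊗[B] N ≃ₗ[A] A ⊗[A'] M') (hsq : EtMil.IsFibreSquare B' B A' A)
    [Module.Finite B N] [Module.Projective B N] [Module.Finite A' M'] [Module.Projective A' M'] :
    Module.Finite B' (EtMil.glue B' φ) ∧ Module.Projective B' (EtMil.glue B' φ) := by
  let e₁ := LinearEquiv.ofBijective _ (bijective_liftBaseChange_glueFst φ (isWeakSquare hsq))
  let e₂ := LinearEquiv.ofBijective _ (bijective_liftBaseChange_glueSnd φ (isWeakSquare hsq))
  have := Module.Flat.of_linearEquiv e₁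
  have := Module.Flat.of_linearEquiv e₂
  have : Module.FinitePresentation B N := Module.finitePresentation_of_projective B N
  have : Module.FinitePresentation A' M' := Module.finitePresentation_of_projective A' M'
  have : Module.FinitePresentation B (B ⊗[B'] EtMil.glue B' φ) := Module.FinitePresentation.of_equiv e₁.symm
  have : Module.FinitePresentation A' (A' ⊗[B'] EtMil.glue B' φ) := Module.FinitePresentation.of_equiv e₂.symm
  have := finitePresentation_of_pair hsq (EtMil.glue B' φ)
  have := flat_of_flat_baseChange_pair hsq (EtMil.glue B' φ)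
  exact ⟨inferInstance, Module.Flat.projective_of_finitePresentation⟩

theorem isWeakSquare_of_isPushout (hsq : EtMil.IsFibreSquare B' B A' A)
    (D' D C' C : Type u) [CommRing D'] [CommRing D] [CommRing C'] [CommRing C]
    [Algebra B' D'] [Algebra B D] [Algebra A' C'] [Algebra A C]
    [Algebra D' D] [Algebra B' D] [IsScalarTower B' B D] [IsScalarTower B' D' D] [Algebra.IsPushout B' B D' D]
    [Algebra D' C'] [Algebra B' C'] [IsScalarTower B' A' C'] [IsScalarTower B' D' C'] [Algebra.IsPushout B' A' D' C']
    [Algebra D' C] [Algebra B' C] [IsScalarTower B' A C] [IsScalarTower B' D' C] [Algebra.IsPushout B' A D' C]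
    [Algebra D C] [IsScalarTower D' D C]
    [Algebra C' C] [IsScalarTower D' C' C] [Algebra A' C] [IsScalarTower A' A C] [IsScalarTower A' C' C] :
    IsWeakSquare D' D C' C := by
  have hw := isWeakSquare hsq
  let e : A' ⊗[B'] D' ≃ₐ[A'] C' := Algebra.IsPushout.equiv B' A' D' C'
  let eA : A ⊗[B'] D' ≃ₐ[A] C := Algebra.IsPushout.equiv B' A D' C
  let eB : B ⊗[B'] D' ≃ₐ[B] D := Algebra.IsPushout.equiv B' B D' D
  have hD : ∀ (b : B') (d : D'), algebraMap D' D (algebraMap B' D' b * d) = eB (algebraMap B' B b ⊗ₜ d) := fun b d => by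
    rw [Algebra.IsPushout.equiv_tmul, map_mul, ← IsScalarTower.algebraMap_apply B' D' D,
      ← IsScalarTower.algebraMap_apply B' B D]
  have hC : ∀ x, algebraMap C' C (e x) = eA ((IsScalarTower.toAlgHom B' A' A).toLinearMap.rTensor D' x) := fun x => by
    induction x with
    | zero => simp
    | add a b ha hb => simp only [map_add, ha, hb]
    | tmul a d =>
      rw [Algebra.IsPushout.equiv_tmul, LinearMap.rTensor_tmul, map_mul, ← IsScalarTower.algebraMap_apply A' C' C,
        ← IsScalarTower.algebraMap_apply D' C' C]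
      show _ = eA (algebraMap A' A a ⊗ₜ d)
      rw [Algebra.IsPushout.equiv_tmul, ← IsScalarTower.algebraMap_apply A' A C]
  refine ⟨fun c => ?_, fun d => ?_, fun i hi => ?_⟩
  · obtain ⟨x, rfl⟩ := eA.surjective c
    obtain ⟨y, rfl⟩ := LinearMap.rTensor_surjective D' (g := (IsScalarTower.toAlgHom B' A' A).toLinearMap) hw.surjA x
    exact ⟨e y, hC y⟩
  · obtain ⟨x, rfl⟩ := eB.surjective d
    obtain ⟨m, rfl⟩ := exists_one_tmul hw.surjB x
    exact ⟨m, by simpa using hD 1 m⟩
  · obtain ⟨x, rfl⟩ := e.surjective i
    rw [hC, map_eq_zero_iff eA eA.injective] at hi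
    have hex : Function.Exact (LinearMap.ker (IsScalarTower.toAlgHom B' A' A).toLinearMap).subtype
        (IsScalarTower.toAlgHom B' A' A).toLinearMap := LinearMap.exact_subtype_ker_map _
    obtain ⟨w, rfl⟩ := (rTensor_exact D' hex hw.surjA x).mp hi
    clear hi
    induction w with
    | zero => exact ⟨0, map_zero _, by simp⟩
    | tmul i d =>
      obtain ⟨k, hk, hk'⟩ := hw.exists_ker i.1 i.2
      refine ⟨algebraMap B' D' k * d, ?_, ?_⟩
      · rw [hD, hk, zero_tmul, map_zero]
      · rw [LinearMap.rTensor_tmul, Submodule.subtype_apply, ← hk', Algebra.IsPushout.equiv_tmul, map_mul,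
          ← IsScalarTower.algebraMap_apply B' A' C', ← IsScalarTower.algebraMap_apply B' D' C']
    | add a b ha hb =>
      obtain ⟨k, hk, hk'⟩ := ha
      obtain ⟨l, hl, hl'⟩ := hb
      exact ⟨k + l, by rw [map_add, hk, hl, add_zero], by rw [map_add, map_add, map_add, hk', hl']⟩

theorem algebraMap_image_map_ker (hsq : EtMil.IsFibreSquare B' B A' A)
    (D' C' : Type u) [CommRing D'] [CommRing C'] [Algebra B' D'] [Algebra A' C']
    [Algebra D' C'] [Algebra B' C'] [IsScalarTower B' A' C'] [IsScalarTower B' D' C'] [Algebra.IsPushout B' A' D' C'] :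
    (algebraMap D' C') '' ((RingHom.ker (algebraMap B' B)).map (algebraMap B' D') : Set D') =
      ((RingHom.ker (algebraMap A' A)).map (algebraMap A' C') : Set C') := by
  have hw := isWeakSquare hsq
  let KD := (RingHom.ker (algebraMap B' B)).map (algebraMap B' D')
  let e : A' ⊗[B'] D' ≃ₐ[A'] C' := Algebra.IsPushout.equiv B' A' D' C'
  refine Set.Subset.antisymm (Set.image_subset_iff.mpr fun d hd => ?_) fun c hc => ?_
  · show algebraMap D' C' d ∈ (RingHom.ker (algebraMap A' A)).map (algebraMap A' C')
    have := Ideal.mem_map_of_mem (algebraMap D' C') (show d ∈ KD from hd)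
    rw [Ideal.map_map, ← IsScalarTower.algebraMap_eq, IsScalarTower.algebraMap_eq B' A' C', ← Ideal.map_map] at this
    refine Ideal.map_mono (Ideal.map_le_iff_le_comap.mpr fun k hk => ?_) this
    rw [Ideal.mem_comap, RingHom.mem_ker, ← IsScalarTower.algebraMap_apply B' A' A,
      IsScalarTower.algebraMap_apply B' B A, RingHom.mem_ker.mp hk, map_zero]
  · have hmul : ∀ i : A', algebraMap A' A i = 0 → ∀ z : C', ∃ d ∈ KD, algebraMap D' C' d = algebraMap A' C' i * z := by
      intro i hi z
      obtain ⟨x, rfl⟩ := e.surjective z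
      induction x with
      | zero => exact ⟨0, zero_mem _, by simp⟩
      | tmul a d =>
        obtain ⟨k, hk, hk'⟩ := hw.exists_ker (i * a) (by rw [map_mul, hi, zero_mul])
        refine ⟨algebraMap B' D' k * d, Ideal.mul_mem_right _ _ (Ideal.mem_map_of_mem _ hk), ?_⟩
        rw [Algebra.IsPushout.equiv_tmul, map_mul, ← IsScalarTower.algebraMap_apply B' D' C',
          IsScalarTower.algebraMap_apply B' A' C', hk', map_mul, mul_assoc]
      | add a b ha hb =>
        obtain ⟨d, hd, h⟩ := ha
        obtain ⟨d', hd', h'⟩ := hb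
        exact ⟨d + d', add_mem hd hd', by rw [map_add, h, h', map_add, mul_add]⟩
    have hc' : c ∈ Submodule.span C' (algebraMap A' C' '' (RingHom.ker (algebraMap A' A) : Set A')) := hc
    suffices ∀ z : C', ∃ d ∈ KD, algebraMap D' C' d = z * c by
      obtain ⟨d, hd, e'⟩ := this 1
      exact ⟨d, hd, by rw [e', one_mul]⟩
    clear hc
    induction hc' using Submodule.span_induction with
    | mem x hx =>
      obtain ⟨i, hi, rfl⟩ := hx
      intro z
      rw [mul_comm]
      exact hmul i hi z
    | zero => exact fun z => ⟨0, zero_mem _, by simp⟩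
    | add a b _ _ ha hb =>
      intro z
      obtain ⟨d, hd, h⟩ := ha z
      obtain ⟨d', hd', h'⟩ := hb z
      exact ⟨d + d', add_mem hd hd', by rw [map_add, h, h', mul_add]⟩
    | smul r x _ hx =>
      intro z
      obtain ⟨d, hd, h⟩ := hx (z * r)
      exact ⟨d, hd, by rw [h, smul_eq_mul, mul_assoc]⟩

theorem isPushout_square (hsq : EtMil.IsFibreSquare B' B A' A) : Algebra.IsPushout B' B A' A := by
  have hw := isWeakSquare hsq
  let f := LinearMap.liftBaseChange B (IsScalarTower.toAlgHom B' A' A).toLinearMap
  have hf : Function.Bijective f := by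
    refine ⟨(injective_iff_map_eq_zero f).mpr fun t ht => ?_, fun a => ?_⟩
    · obtain ⟨a', rfl⟩ := exists_one_tmul hw.surjB t
      rw [LinearMap.liftBaseChange_tmul, one_smul] at ht
      obtain ⟨k, hk, rfl⟩ := hw.exists_ker a' ht
      rw [Algebra.algebraMap_eq_smul_one, tmul_smul_eq_zero hk]
    · obtain ⟨a', rfl⟩ := hw.surjA a
      exact ⟨(1 : B) ⊗ₜ a', by simp [f]⟩
  exact ⟨IsBaseChange.of_equiv (LinearEquiv.ofBijective f hf) fun x => by simp [f]⟩

theorem restrictScalars_map_smul_top {A : Type u} [CommRing A] {A' : Type v} [CommRing A'] [Algebra A A']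
    {M : Type w} [AddCommGroup M] [Module A M] {M' : Type w} [AddCommGroup M'] [Module A' M'] [Module A M'] [IsScalarTower A A' M']
    (u : M →ₗ[A] M') (hu : Submodule.span A' (Set.range u) = ⊤)
    (I : Ideal A) (hI : ∀ a ∈ Ideal.map (algebraMap A A') I, ∃ i ∈ I, algebraMap A A' i = a) :
    ((Ideal.map (algebraMap A A') I) • (⊤ : Submodule A' M')).restrictScalars A = Submodule.map u (I • (⊤ : Submodule A M)) := by
  refine le_antisymm (fun x hx => ?_) ?_
  · refine Submodule.smul_induction_on ((Submodule.restrictScalars_mem A _ x).mp hx) (fun a ha y hy' => ?_) (fun p q hp hq => add_mem hp hq)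
    clear hy'
    have hy : y ∈ Submodule.span A' (Set.range u) := hu ▸ Submodule.mem_top
    induction hy using Submodule.span_induction generalizing a with
    | mem z hz =>
      obtain ⟨m, rfl⟩ := hz
      obtain ⟨i, hi, rfl⟩ := hI a ha
      exact ⟨i • m, Submodule.smul_mem_smul hi Submodule.mem_top, by rw [map_smul, algebraMap_smul]⟩
    | zero => rw [smul_zero]; exact zero_mem _
    | add p q _ _ hp hq => rw [smul_add]; exact add_mem (hp a ha) (hq a ha)
    | smul c p _ hp => rw [← mul_smul]; exact hp (a * c) (Ideal.mul_mem_right _ _ ha)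
  · rw [Submodule.map_smul'', Ideal.smul_restrictScalars, Submodule.restrictScalars_top]
    exact Submodule.smul_mono le_rfl le_top

theorem isFibreSquare_conductor {A A' : Type u} [CommRing A] [CommRing A'] [Algebra A A']
    (hinj : Function.Injective (algebraMap A A')) :
    EtMil.IsFibreSquare A (A ⧸ Module.annihilator A (A' ⧸ LinearMap.range (Algebra.linearMap A A'))) A'
      (A' ⧸ Ideal.map (algebraMap A A') (Module.annihilator A (A' ⧸ LinearMap.range (Algebra.linearMap A A')))) := by
  set c := Module.annihilator A (A' ⧸ LinearMap.range (Algebra.linearMap A A'))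
  refine ⟨Ideal.Quotient.mk_surjective, fun b a' h => ?_⟩
  obtain ⟨a, rfl⟩ := Ideal.Quotient.mk_surjective b
  have hmem : ∀ y ∈ c.map (algebraMap A A'), ∃ i ∈ c, algebraMap A A' i = y := by
    intro y hy
    have hy' : y ∈ Submodule.span A' (algebraMap A A' '' c) := hy
    induction hy' using Submodule.span_induction with
    | mem z hz => obtain ⟨i, hi, rfl⟩ := hz; exact ⟨i, hi, rfl⟩
    | zero => exact ⟨0, zero_mem _, map_zero _⟩
    | add p q hp' hq' hp hq =>
      obtain ⟨i, hi, rfl⟩ := hp hp'
      obtain ⟨j, hj, rfl⟩ := hq hq'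
      exact ⟨i + j, add_mem hi hj, map_add _ _ _⟩
    | smul r p hp' hp =>
      obtain ⟨i, hi, rfl⟩ := hp hp'
      have hx : ∀ (r : A') (i : A), i ∈ c → ∃ j : A, algebraMap A A' j = r * algebraMap A A' i := fun r i hi => by
        obtain ⟨j, hj⟩ := (Submodule.Quotient.mk_eq_zero _).mp
          (show Submodule.Quotient.mk (p := LinearMap.range (Algebra.linearMap A A')) (i • r) = 0 by
            rw [Submodule.Quotient.mk_smul]; exact Module.mem_annihilator.mp hi _)
        exact ⟨j, by rw [← Algebra.linearMap_apply, hj, Algebra.smul_def, mul_comm]⟩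
      obtain ⟨j, hj⟩ := hx r i hi
      refine ⟨j, Module.mem_annihilator.mpr fun z => ?_, by rw [hj, smul_eq_mul]⟩
      obtain ⟨z, rfl⟩ := Submodule.Quotient.mk_surjective _ z
      obtain ⟨j', hj'⟩ := hx (r * z) i hi
      rw [← Submodule.Quotient.mk_smul, Submodule.Quotient.mk_eq_zero, Algebra.smul_def, hj]
      exact ⟨j', by rw [Algebra.linearMap_apply, hj']; ring⟩
  have h' : a' - algebraMap A A' a ∈ c.map (algebraMap A A') := by
    rw [← Ideal.Quotient.eq]
    exact h.symm
  obtain ⟨i, hi, hi'⟩ := hmem _ h'
  refine ⟨a + i, ⟨?_, ?_⟩, fun y hy => hinj ?_⟩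
  · show Ideal.Quotient.mk c (a + i) = Ideal.Quotient.mk c a
    rw [map_add, Ideal.Quotient.eq_zero_iff_mem.mpr hi, add_zero]
  · rw [map_add, hi', add_sub_cancel]
  · rw [hy.2, map_add, hi', add_sub_cancel]

section flatCorner

variable {R : Type u} [CommRing R] [Algebra R B'] [Algebra R B] [Algebra R A'] [Algebra R A]
  [IsScalarTower R B' B] [IsScalarTower R B' A'] [IsScalarTower R B' A] [IsScalarTower R B A] [IsScalarTower R A' A]

variable (R B' B A') in
/-- The map into the product. -/
def toProd : B' →ₗ[R] B × A' :=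
  LinearMap.prod (IsScalarTower.toAlgHom R B' B).toLinearMap (IsScalarTower.toAlgHom R B' A').toLinearMap

variable (R B A' A) in
/-- The difference map out of the product. -/
def diff : B × A' →ₗ[R] A :=
  (IsScalarTower.toAlgHom R B A).toLinearMap.comp (LinearMap.fst R B A') -
    (IsScalarTower.toAlgHom R A' A).toLinearMap.comp (LinearMap.snd R B A')

variable (hsq : EtMil.IsFibreSquare B' B A' A)

include hsq

omit [IsScalarTower R B' A] in
theorem square_sequence : Function.Injective (toProd B' B A' R) ∧ Function.Exact (toProd B' B A' R) (diff B A' A R) ∧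
    Function.Surjective (diff B A' A R) := by
  refine ⟨fun x y e => eq_of_square hsq (congrArg Prod.fst e) (congrArg Prod.snd e), fun p => ?_, fun a => ?_⟩
  · constructor
    · intro hp
      have h : algebraMap B A p.1 = algebraMap A' A p.2 := sub_eq_zero.mp hp
      obtain ⟨b', ⟨h1, h2⟩, -⟩ := hsq.2 p.1 p.2 h
      exact ⟨b', Prod.ext h1 h2⟩
    · rintro ⟨b', rfl⟩
      show algebraMap B A (algebraMap B' B b') - algebraMap A' A (algebraMap B' A' b') = 0
      rw [← IsScalarTower.algebraMap_apply, ← IsScalarTower.algebraMap_apply, sub_self]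
  · obtain ⟨a', ha⟩ := hsq.1 a
    refine ⟨(0, -a'), ?_⟩
    show algebraMap B A 0 - algebraMap A' A (-a') = a
    rw [map_zero, map_neg, ha, zero_sub, neg_neg]

omit [IsScalarTower R B' A] in
theorem flat_corner [Module.Flat R B] [Module.Flat R A'] [Module.Flat R A] : Module.Flat R B' := by
  obtain ⟨hi, hex, hs⟩ := square_sequence (R := R) hsq
  refine Module.Flat.iff_rTensor_injective'.mpr fun J => ?_
  have h1 : Function.Injective ((toProd B' B A' R).lTensor J) :=
    W4Lib.lTensor_injective_of_flat_quotient hi hex hs J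
  have h2 : Function.Injective (J.subtype.rTensor (B × A')) := by
    let eJ := TensorProduct.prodRight R R J B A'
    let eR := TensorProduct.prodRight R R R B A'
    have h : ∀ x, eR (J.subtype.rTensor (B × A') x) =
        ((J.subtype.rTensor B (eJ x).1), (J.subtype.rTensor A' (eJ x).2)) := fun x => by
      induction x with
      | zero => simp only [map_zero, Prod.fst_zero, Prod.snd_zero]; rfl
      | tmul j p => simp [eJ, eR]
      | add a b ha hb => simp only [map_add, ha, hb, Prod.fst_add, Prod.snd_add, Prod.mk_add_mk]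
    intro x y hxy
    have := congrArg eR hxy
    rw [h, h, Prod.mk.injEq] at this
    exact eJ.injective (Prod.ext
      (Module.Flat.rTensor_preserves_injective_linearMap (M := B) _ J.injective_subtype this.1)
      (Module.Flat.rTensor_preserves_injective_linearMap (M := A') _ J.injective_subtype this.2))
  have hcomm : (toProd B' B A' R).lTensor R ∘ₗ J.subtype.rTensor B' =
      J.subtype.rTensor (B × A') ∘ₗ (toProd B' B A' R).lTensor J := by
    rw [LinearMap.lTensor_comp_rTensor, LinearMap.rTensor_comp_lTensor]
  refine Function.Injective.of_comp (f := (toProd B' B A' R).lTensor R) ?_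
  rw [← LinearMap.coe_comp, hcomm, LinearMap.coe_comp]
  exact h2.comp h1

omit [IsScalarTower R B' A] in
theorem baseChange_square [Module.Flat R A] (R' : Type u) [CommRing R'] [Algebra R R'] :
    Function.Surjective (Algebra.TensorProduct.map (AlgHom.id R R') (IsScalarTower.toAlgHom R A' A)) ∧
    ∀ (x : R' ⊗[R] B) (y : R' ⊗[R] A'),
      Algebra.TensorProduct.map (AlgHom.id R R') (IsScalarTower.toAlgHom R B A) x =
        Algebra.TensorProduct.map (AlgHom.id R R') (IsScalarTower.toAlgHom R A' A) y →
      ∃! z : R' ⊗[R] B',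
        Algebra.TensorProduct.map (AlgHom.id R R') (IsScalarTower.toAlgHom R B' B) z = x ∧
        Algebra.TensorProduct.map (AlgHom.id R R') (IsScalarTower.toAlgHom R B' A') z = y := by
  obtain ⟨hi, hex, hs⟩ := square_sequence (R := R) hsq
  have hsA : Function.Surjective ((IsScalarTower.toAlgHom R A' A).toLinearMap.lTensor R') :=
    LinearMap.lTensor_surjective R' hsq.1
  refine ⟨hsA, fun x y hxy => ?_⟩
  have hi' : Function.Injective ((toProd B' B A' R).lTensor R') :=
    W4Lib.lTensor_injective_of_flat_quotient hi hex hs R'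
  have hex' := lTensor_exact R' hex hs
  let ep := TensorProduct.prodRight R R R' B A'
  have hfst : ∀ z, (IsScalarTower.toAlgHom R B' B).toLinearMap.lTensor R' z = (ep ((toProd B' B A' R).lTensor R' z)).1 ∧
      (IsScalarTower.toAlgHom R B' A').toLinearMap.lTensor R' z = (ep ((toProd B' B A' R).lTensor R' z)).2 := fun z => by
    induction z with
    | zero => simp
    | add a b ha hb => simp only [map_add, Prod.fst_add, Prod.snd_add, ha.1, ha.2, hb.1, hb.2, and_self]
    | tmul r b => simp [ep, toProd]
  have hdiff : ∀ w, (diff B A' A R).lTensor R' w = (IsScalarTower.toAlgHom R B A).toLinearMap.lTensor R' (ep w).1 -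
      (IsScalarTower.toAlgHom R A' A).toLinearMap.lTensor R' (ep w).2 := fun w => by
    induction w with
    | zero => simp
    | add a b ha hb => simp only [map_add, Prod.fst_add, Prod.snd_add, ha, hb]; abel
    | tmul r b => simp [ep, diff, tmul_sub]
  have h0 : (diff B A' A R).lTensor R' (ep.symm (x, y)) = 0 := by
    rw [hdiff, LinearEquiv.apply_symm_apply, sub_eq_zero]
    exact hxy
  obtain ⟨z, hz⟩ := (hex' _).mp h0
  refine ⟨z, ⟨?_, ?_⟩, fun z' hz' => hi' (ep.injective (Prod.ext ?_ ?_))⟩
  · show (IsScalarTower.toAlgHom R B' B).toLinearMap.lTensor R' z = x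
    rw [(hfst z).1, hz, LinearEquiv.apply_symm_apply]
  · show (IsScalarTower.toAlgHom R B' A').toLinearMap.lTensor R' z = y
    rw [(hfst z).2, hz, LinearEquiv.apply_symm_apply]
  · rw [← (hfst z').1, ← (hfst z).1]
    refine hz'.1.trans ?_
    rw [(hfst z).1, hz, LinearEquiv.apply_symm_apply]
  · rw [← (hfst z').2, ← (hfst z).2]
    refine hz'.2.trans ?_
    rw [(hfst z).2, hz, LinearEquiv.apply_symm_apply]

end flatCorner

end Groth.Agent.EtMil7
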