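import Groth.Agent.EtMil7.Presented
import Mathlib.RingTheory.FinitePresentation

/-!
Finite presentation of glued modules over an algebra over a Milnor square.
-/

noncomputable section

namespace Groth.Agent.EtMil7

universe u

open TensorProduct

variable {B' B A' A : Type u} [CommRing B'] [CommRing B] [CommRing A'] [CommRing A]
  [Algebra B' B] [Algebra B' A'] [Algebra B A] [Algebra A' A] [Algebra B' A]
  [IsScalarTower B' B A] [IsScalarTower B' A' A]

theorem exists_fg_subsingleton {R : Type u} [CommRing R] (T : Type u) [CommRing T] [Algebra R T] (K : Type u)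
    [AddCommGroup K] [Module R K] [Module.Finite T (T ⊗[R] K)] :
    ∃ s : Finset K, ∀ S : Submodule R K, (↑s : Set K) ⊆ S → Subsingleton (T ⊗[R] (K ⧸ S)) := by
  classical
  obtain ⟨g, hg⟩ := Module.Finite.fg_top (R := T) (M := T ⊗[R] K)
  choose F hF using fun x : T ⊗[R] K => TensorProduct.exists_finset x
  refine ⟨g.biUnion fun x => (F x).image Prod.snd, fun S hS => subsingleton_of_forall_eq 0 fun y => ?_⟩
  obtain ⟨x, rfl⟩ : ∃ x, S.mkQ.baseChange T x = y := LinearMap.lTensor_surjective T S.mkQ_surjective y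
  have hx : x ∈ Submodule.span T (g : Set (T ⊗[R] K)) := hg ▸ Submodule.mem_top
  refine (Submodule.span_le.mpr ?_ hx : x ∈ LinearMap.ker (S.mkQ.baseChange T))
  intro z hz
  show S.mkQ.baseChange T z = 0
  rw [hF z, map_sum]
  refine Finset.sum_eq_zero fun i hi => ?_
  rw [LinearMap.baseChange_tmul, show S.mkQ i.2 = 0 from (Submodule.Quotient.mk_eq_zero S).mpr
    (hS (Finset.mem_biUnion.mpr ⟨z, hz, Finset.mem_image.mpr ⟨i, hi, rfl⟩⟩)), tmul_zero]

variable {P : Type u} [CommRing P] [Algebra B' P]

/-- Tensoring over the algebra with the pulled back ring is tensoring over the base. -/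
def cancelEquiv (T : Type u) [CommRing T] [Algebra B' T] (K : Type u) [AddCommGroup K] [Module P K] [Module B' K]
    [IsScalarTower B' P K] : (P ⊗[B'] T) ⊗[P] K ≃ₗ[B'] T ⊗[B'] K :=
  (TensorProduct.comm P (P ⊗[B'] T) K).restrictScalars B' ≪≫ₗ
    (AlgebraTensorModule.cancelBaseChange B' P P K T).restrictScalars B' ≪≫ₗ TensorProduct.comm B' K T

theorem cancelEquiv_tmul (T : Type u) [CommRing T] [Algebra B' T] (K : Type u) [AddCommGroup K] [Module P K]
    [Module B' K] [IsScalarTower B' P K] (p : P) (t : T) (k : K) :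
    cancelEquiv T K ((p ⊗ₜ[B'] t) ⊗ₜ[P] k) = t ⊗ₜ[B'] (p • k) := by
  simp [cancelEquiv]

theorem finite_of_pair_over (hsq : EtMil.IsFibreSquare B' B A' A) (K : Type u) [AddCommGroup K] [Module P K]
    [Module B' K] [IsScalarTower B' P K] [Module.Finite (P ⊗[B'] B) ((P ⊗[B'] B) ⊗[P] K)]
    [Module.Finite (P ⊗[B'] A') ((P ⊗[B'] A') ⊗[P] K)] : Module.Finite P K := by
  classical
  obtain ⟨s, hs⟩ := exists_fg_subsingleton (R := P) (P ⊗[B'] B) K
  obtain ⟨t, ht⟩ := exists_fg_subsingleton (R := P) (P ⊗[B'] A') K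
  let S : Submodule P K := Submodule.span P ↑(s ∪ t)
  have h1 := hs S (fun x hx => Submodule.subset_span (Finset.mem_union_left _ hx))
  have h2 := ht S (fun x hx => Submodule.subset_span (Finset.mem_union_right _ hx))
  haveI : Subsingleton (B ⊗[B'] (K ⧸ S)) := (cancelEquiv (P := P) B (K ⧸ S)).symm.injective.subsingleton
  haveI : Subsingleton (A' ⊗[B'] (K ⧸ S)) := (cancelEquiv (P := P) A' (K ⧸ S)).symm.injective.subsingleton
  have := subsingleton_of_pair hsq (K ⧸ S)
  refine ⟨⟨s ∪ t, ?_⟩⟩
  exact Submodule.Quotient.subsingleton_iff.mp this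

theorem finite_ker_over (T : Type u) [CommRing T] [Algebra B' T] {F G : Type u} [AddCommGroup F] [Module P F]
    [Module.Finite P F] [Module B' F] [IsScalarTower B' P F] [AddCommGroup G] [Module P G] [Module B' G]
    [IsScalarTower B' P G] [Module.Flat B' G] (π : F →ₗ[P] G) (hπ : Function.Surjective π)
    [Module.FinitePresentation (P ⊗[B'] T) ((P ⊗[B'] T) ⊗[P] G)] :
    Module.Finite (P ⊗[B'] T) ((P ⊗[B'] T) ⊗[P] LinearMap.ker π) := by
  have hex : Function.Exact (LinearMap.ker π).subtype π := LinearMap.exact_subtype_ker_map π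
  have hinjT : Function.Injective (((LinearMap.ker π).subtype.restrictScalars B').lTensor T) :=
    W4Lib.lTensor_injective_of_flat_quotient (g := π.restrictScalars B') (LinearMap.ker π).injective_subtype hex hπ T
  have hinj : Function.Injective ((LinearMap.ker π).subtype.baseChange (P ⊗[B'] T)) := by
    have hc : ∀ x, cancelEquiv T F ((LinearMap.ker π).subtype.baseChange (P ⊗[B'] T) x) =
        ((LinearMap.ker π).subtype.restrictScalars B').lTensor T (cancelEquiv T (LinearMap.ker π) x) := by
      intro x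
      induction x with
      | zero => simp
      | add a b ha hb => simp only [map_add, ha, hb]
      | tmul c k =>
        induction c with
        | zero => simp
        | add a b ha hb => simp only [TensorProduct.add_tmul, map_add, ha, hb]
        | tmul p t => simp [cancelEquiv_tmul]
    intro x y hxy
    refine (cancelEquiv T _).injective (hinjT ?_)
    rw [← hc, ← hc, hxy]
  have hsurj : Function.Surjective (π.baseChange (P ⊗[B'] T)) := LinearMap.lTensor_surjective _ hπ
  have hexT : Function.Exact ((LinearMap.ker π).subtype.baseChange (P ⊗[B'] T)) (π.baseChange (P ⊗[B'] T)) :=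
    lTensor_exact _ hex hπ
  have hfg := Module.FinitePresentation.fg_ker (π.baseChange (P ⊗[B'] T)) hsurj
  rw [LinearMap.exact_iff.mp hexT] at hfg
  have : Module.Finite (P ⊗[B'] T) (LinearMap.range ((LinearMap.ker π).subtype.baseChange (P ⊗[B'] T))) :=
    Module.Finite.iff_fg.mpr hfg
  exact Module.Finite.equiv (LinearEquiv.ofInjective _ hinj).symm

theorem finitePresentation_of_pair_over (hsq : EtMil.IsFibreSquare B' B A' A) (G : Type u) [AddCommGroup G]
    [Module P G] [Module B' G] [IsScalarTower B' P G] [Module.Flat B' G]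
    [Module.FinitePresentation (P ⊗[B'] B) ((P ⊗[B'] B) ⊗[P] G)]
    [Module.FinitePresentation (P ⊗[B'] A') ((P ⊗[B'] A') ⊗[P] G)] : Module.FinitePresentation P G := by
  have := finite_of_pair_over (P := P) hsq G
  obtain ⟨n, π, hπ⟩ := Module.Finite.exists_fin' P G
  have := finite_ker_over (B' := B') B π hπ
  have := finite_ker_over (B' := B') A' π hπ
  have := finite_of_pair_over (P := P) hsq (LinearMap.ker π)
  exact Module.finitePresentation_of_surjective π hπ (Module.Finite.iff_fg.mp this)

omit [IsScalarTower B' B A] [IsScalarTower B' A' A] in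
/-- One side: the base change of a module over a quotient of `P` is finitely presented. -/
theorem finitePresentation_side (T : Type u) [CommRing T] [Algebra B' T] (D' D : Type u) [CommRing D'] [CommRing D]
    [Algebra B' D'] [Algebra P D'] [IsScalarTower B' P D'] [Algebra T D] [Algebra D' D] [Algebra B' D]
    [IsScalarTower B' T D] [IsScalarTower B' D' D] [Algebra.IsPushout B' T D' D] [Module.FinitePresentation P D']
    (G : Type u) [AddCommGroup G] [Module P G] [Module D' G] [IsScalarTower P D' G]
    (N : Type u) [AddCommGroup N] [Module D N] [Module.FinitePresentation D N] (e : D ⊗[D'] G ≃ₗ[D] N) :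
    Module.FinitePresentation (P ⊗[B'] T) ((P ⊗[B'] T) ⊗[P] G) := by
  letI : Algebra P D := ((algebraMap D' D).comp (algebraMap P D')).toAlgebra
  haveI : IsScalarTower P D' D := IsScalarTower.of_algebraMap_eq fun _ => rfl
  haveI : IsScalarTower B' P D := IsScalarTower.of_algebraMap_eq fun b => by
    rw [IsScalarTower.algebraMap_apply B' D' D, IsScalarTower.algebraMap_apply B' P D', ← IsScalarTower.algebraMap_apply P D' D]
  let σ : P ⊗[B'] T →ₐ[B'] D :=
    Algebra.TensorProduct.lift (IsScalarTower.toAlgHom B' P D) (IsScalarTower.toAlgHom B' T D) fun _ _ => .all _ _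
  letI : Algebra (P ⊗[B'] T) D := σ.toRingHom.toAlgebra
  letI : Algebra T (P ⊗[B'] T) := Algebra.TensorProduct.rightAlgebra
  haveI : IsScalarTower P (P ⊗[B'] T) D := IsScalarTower.of_algebraMap_eq fun p => by
    show _ = σ (p ⊗ₜ 1)
    simp [σ]
  haveI : IsScalarTower T (P ⊗[B'] T) D := IsScalarTower.of_algebraMap_eq fun t => by
    show _ = σ (1 ⊗ₜ t)
    simp [σ]
  haveI : IsScalarTower B' D' D := ‹_›
  haveI : Algebra.IsPushout B' D' T D := Algebra.IsPushout.symm inferInstance
  haveI : Algebra.IsPushout B' P T (P ⊗[B'] T) := inferInstance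
  haveI hpo : Algebra.IsPushout P D' (P ⊗[B'] T) D :=
    (Algebra.IsPushout.comp_iff B' P T (P ⊗[B'] T) (T := D') (T' := D)).mp inferInstance
  haveI : Algebra.IsPushout P (P ⊗[B'] T) D' D := hpo.symm
  haveI : Module.FinitePresentation (P ⊗[B'] T) D := Module.FinitePresentation.of_equiv
    (Algebra.IsPushout.equiv P (P ⊗[B'] T) D' D).toLinearEquiv
  letI : Module (P ⊗[B'] T) N := Module.compHom N σ.toRingHom
  haveI : IsScalarTower (P ⊗[B'] T) D N := ⟨fun a b c => by
    show (σ a * b) • c = σ a • b • c
    rw [mul_smul]⟩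
  haveI : Module.FinitePresentation (P ⊗[B'] T) N := Module.FinitePresentation.trans (P ⊗[B'] T) N D
  exact Module.FinitePresentation.of_equiv
    ((e.restrictScalars (P ⊗[B'] T)).symm ≪≫ₗ Algebra.IsPushout.cancelBaseChange P (P ⊗[B'] T) D' D G)

end Groth.Agent.EtMil7
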